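import Cfsg.Agent.Lib.Zass.Mod1

/-!
Brauer's theorem: the number of matrix factors of `k[G]` modulo its radical equals the number of
conjugacy classes of elements of order prime to `p`.
-/

set_option autoImplicit false
set_option linter.unusedSectionVars false

namespace Cfsg.Agent.Lib.ModHecke.Brauer

open Polynomial Matrix Cfsg.Agent.Lib.Zass.Mod1

section Trace

variable {K : Type*} [Field K] {p : ℕ} [Fact p.Prime] [CharP K p]
variable {n : Type*} [DecidableEq n] [Fintype n]

theorem charpoly_pow_char (M : Matrix n n K) :
    (M ^ p).charpoly = M.charpoly.map (frobenius K p) := by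
  have hp : p.Prime := Fact.out
  cases (isEmpty_or_nonempty n).symm
  · apply (Polynomial.expand_injective hp.pos)
    have h1 : expand K p (M ^ p).charpoly = M.charpoly ^ p := by
      unfold charpoly
      rw [AlgHom.map_det, ← coe_detMonoidHom, ← (detMonoidHom : Matrix n n K[X] →* K[X]).map_pow]
      apply congr_arg det
      refine matPolyEquiv.injective ?_
      rw [map_pow, matPolyEquiv_charmatrix, sub_pow_char_of_commute, ← C_pow]
      · exact (id (matPolyEquiv_eq_X_pow_sub_C p M) :)
      · exact (C M).commute_X
    have : ExpChar K p := ExpChar.prime hp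
    rw [h1, ← map_frobenius_expand p, map_expand]
  · simp [Matrix.charpoly]

theorem trace_pow_char (M : Matrix n n K) : trace (M ^ p) = trace M ^ p := by
  have hp : p.Prime := Fact.out
  cases isEmpty_or_nonempty n
  · simp [Matrix.trace, hp.ne_zero]
  rw [Matrix.trace_eq_neg_charpoly_coeff, Matrix.trace_eq_neg_charpoly_coeff, charpoly_pow_char,
    coeff_map, ← frobenius_def, map_neg]

theorem trace_pow_pow (M : Matrix n n K) (m : ℕ) : trace (M ^ p ^ m) = trace M ^ p ^ m := by
  induction m with
  | zero => simp
  | succ m ih =>
    rw [pow_succ, pow_mul, trace_pow_char, ih, ← pow_mul]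

end Trace

section Main

variable {k G : Type*} [Field k] [Group G] [Fintype G] {p : ℕ} [Fact p.Prime] [CharP k p]

/-- The classes of elements of order prime to `p`. -/
abbrev RegCl (G : Type*) [Group G] (p : ℕ) : Type _ :=
  {c : ConjClasses G // ∃ g, ConjClasses.mk g = c ∧ (orderOf g).Coprime p}

theorem order_conj_of_mk {g g' : G} (h : ConjClasses.mk g = ConjClasses.mk g') :
    orderOf g = orderOf g' := by
  rw [ConjClasses.mk_eq_mk_iff_isConj] at h
  obtain ⟨c, rfl⟩ := isConj_iff.1 h
  have : c * g * c⁻¹ = MulAut.conj c g := rfl
  rw [this]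
  exact (orderOf_injective (MulAut.conj c).toMonoidHom (MulAut.conj c).injective g).symm

variable {n : ℕ} {d : Fin n → ℕ} [∀ i, NeZero (d i)]

/-- **Brauer**: the number of matrix factors of `k[G]` modulo its radical is the number of
`p`-regular classes. -/
theorem card_regCl (ρ : MonoidAlgebra k G →ₐ[k] Π i, Matrix (Fin (d i)) (Fin (d i)) k)
    (hρ : Function.Surjective ρ) {N : ℕ} (hN : ∀ x, ρ x = 0 → x ^ N = 0) :
    Nat.card (RegCl G p) = n := by
  classical
  have hp : p.Prime := Fact.out
  apply le_antisymm
  · -- Brauer's inequality from the library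
    rw [Nat.card_eq_fintype_card, ← Finset.card_univ]
    have := card_regular_classes_le ρ hρ hN
      (Finset.univ.map ⟨(Subtype.val : RegCl G p → ConjClasses G), Subtype.val_injective⟩) (by
      intro C hC g hg
      obtain ⟨⟨c, g', hg', hc⟩, -, rfl⟩ := Finset.mem_map.1 hC
      simp only [Function.Embedding.coeFn_mk] at hg
      have h1 : orderOf g = orderOf g' := order_conj_of_mk (hg.trans hg'.symm)
      rw [h1]
      exact (Nat.Prime.coprime_iff_not_dvd hp).1 hc.symm)
    rwa [Finset.card_map] at this
  · -- the traces
    obtain ⟨M, hM, hq⟩ := exists_good_power (G := G) p 2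
    set q := p ^ M with hqdef
    have hM0 : 2 ≤ q := hM
    let f : Fin n → G → k := fun i g => trace (ρ (MonoidAlgebra.of k G g) i)
    have hfpow : ∀ i g, f i (g ^ q) = f i g ^ q := by
      intro i g
      show trace (ρ (MonoidAlgebra.of k G (g ^ q)) i) = _
      rw [map_pow, map_pow, Pi.pow_apply, hqdef, trace_pow_pow]
    have hfq : ∀ i g, f i (g ^ q) = f i g := by
      intro i g
      have h1 := hfpow i (g ^ q)
      rw [(hq g).1, hfpow i g] at h1
      have : ExpChar k p := ExpChar.prime hp
      have hinj : Function.Injective (fun x : k => x ^ q) := by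
        intro a b hab
        have := (iterateFrobenius_inj k p M)
        apply this
        simpa [iterateFrobenius_def, hqdef] using hab
      have h2 := hinj h1
      rw [hfpow i g]
      exact h2.symm
    have hfcl : ∀ i g g', ConjClasses.mk g = ConjClasses.mk g' → f i g = f i g' := by
      intro i g g' h
      rw [ConjClasses.mk_eq_mk_iff_isConj] at h
      obtain ⟨c, rfl⟩ := isConj_iff.1 h
      show trace (ρ (MonoidAlgebra.of k G _) i) = trace (ρ (MonoidAlgebra.of k G _) i)
      have e : MonoidAlgebra.of k G (c * g * c⁻¹) =
          MonoidAlgebra.of k G c * (MonoidAlgebra.of k G g * MonoidAlgebra.of k G c⁻¹) := by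
        rw [← map_mul, ← map_mul, mul_assoc]
      have e2 : MonoidAlgebra.of k G g * MonoidAlgebra.of k G c⁻¹ * MonoidAlgebra.of k G c =
          MonoidAlgebra.of k G g := by
        rw [← map_mul, ← map_mul, inv_mul_cancel_right]
      rw [e, map_mul, Pi.mul_apply, Matrix.trace_mul_comm, ← Pi.mul_apply, ← map_mul, e2]
    have hreg : ∀ g : G, (orderOf (g ^ q)).Coprime p := by
      intro g
      have h1 : (g ^ q) ^ (q - 1) = 1 := by
        have h2 := (hq g).1
        have h3 : (g ^ q) ^ q = g ^ q * (g ^ q) ^ (q - 1) := by
          rw [← pow_succ', Nat.sub_add_cancel (by omega)]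
        rw [h3] at h2
        exact mul_eq_left.1 h2
      have h4 : orderOf (g ^ q) ∣ q - 1 := orderOf_dvd_of_pow_eq_one h1
      refine Nat.Coprime.coprime_dvd_left h4 ?_
      have hM1 : M ≠ 0 := by
        rintro rfl
        rw [hqdef] at hM0
        simp at hM0
      have hd : p ∣ q := by
        rw [hqdef]
        exact dvd_pow_self p hM1
      refine ((Nat.Prime.coprime_iff_not_dvd hp).2 fun h => ?_).symm
      have h5 : p ∣ q - (q - 1) := Nat.dvd_sub hd h
      have h6 : q - (q - 1) = 1 := by omega
      rw [h6] at h5
      exact hp.one_lt.ne' (Nat.dvd_one.1 h5)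
    let r : RegCl G p → G := fun c => c.2.choose
    have hr : ∀ c, ConjClasses.mk (r c) = c.1 := fun c => c.2.choose_spec.1
    let Ψ : (Fin n → k) →ₗ[k] (RegCl G p → k) :=
      { toFun := fun b c => ∑ i, b i * f i (r c)
        map_add' := by
          intro a b
          funext c
          simp [add_mul, Finset.sum_add_distrib]
        map_smul' := by
          intro a b
          funext c
          simp [Finset.mul_sum, mul_assoc] }
    have hinj : Function.Injective Ψ := by
      refine (injective_iff_map_eq_zero _).2 fun b hb => ?_
      have h1 : ∀ h : G, (orderOf h).Coprime p → ∑ i, b i * f i h = 0 := by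
        intro h hh
        have h2 := congrFun hb ⟨ConjClasses.mk h, h, rfl, hh⟩
        have h3 : ∑ i, b i * f i (r ⟨ConjClasses.mk h, h, rfl, hh⟩) = 0 := h2
        rw [← h3]
        refine Finset.sum_congr rfl fun i _ => ?_
        rw [hfcl i h _ (hr ⟨ConjClasses.mk h, h, rfl, hh⟩).symm]
      have h2 : ∀ g : G, ∑ i, b i * f i g = 0 := by
        intro g
        rw [← h1 _ (hreg g)]
        refine Finset.sum_congr rfl fun i _ => ?_
        rw [hfq]
      have h3 : ∀ a : MonoidAlgebra k G, ∑ i, b i * trace (ρ a i) = 0 := by
        intro a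
        induction a using MonoidAlgebra.induction_on with
        | of g => exact h2 g
        | add a a' ha ha' =>
          rw [map_add]
          simp only [Pi.add_apply, Matrix.trace_add, mul_add, Finset.sum_add_distrib, ha, ha', add_zero]
        | smul c a ha =>
          rw [map_smul]
          simp only [Pi.smul_apply, Matrix.trace_smul, smul_eq_mul]
          have : ∑ i, b i * (c * trace (ρ a i)) = c * ∑ i, b i * trace (ρ a i) := by
            rw [Finset.mul_sum]
            refine Finset.sum_congr rfl fun i _ => ?_
            ring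
          rw [this, ha, mul_zero]
      funext i
      obtain ⟨E, hE⟩ := hρ (Pi.single i (Matrix.single 0 0 (1 : k)))
      have h4 := h3 E
      rw [hE, Finset.sum_eq_single i] at h4
      · simpa using h4
      · intro j _ hj
        simp [Pi.single_eq_of_ne hj]
      · simp
    have h5 := LinearMap.finrank_le_finrank_of_injective hinj
    rw [Module.finrank_fintype_fun_eq_card, Module.finrank_fintype_fun_eq_card, Fintype.card_fin] at h5
    rwa [Nat.card_eq_fintype_card]

end Main

end Cfsg.Agent.Lib.ModHecke.Brauer
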