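import Cfsg.Agent.Lib.ModHecke.Simple
import Cfsg.Agent.Lib.ModHecke.Brauer

/-!
The characters of the Hecke algebra of a split `(B,N)`-pair in characteristic `p`, and their number.
-/

set_option autoImplicit false
set_option linter.unusedSectionVars false

namespace Cfsg.Agent.Lib.ModHecke.Chars

open Cfsg Cfsg.Agent.Lib.BNPair.Basic Cfsg.Agent.Lib.BNPair.Parabolic
open Cfsg.Agent.Lib.BNPair.CoxeterExchange
open Cfsg.Agent.Lib.ChevOrder.BNCount Cfsg.Agent.Lib.ChevOrder.Cox
open Cfsg.Agent.Lib.ModHecke.Core Cfsg.Agent.Lib.ModHecke.Core.Spl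
open Cfsg.Agent.Lib.ModHecke.Frob Cfsg.Agent.Lib.ModHecke.Simple
open scoped Classical

section Matsu

variable {W ι : Type*} [Group W] {f : ι → W} {L : W → ℕ}

variable {H : Type*} [Monoid H] (hs : Setup f L) {g : ι → H}
  (hbr : ∀ a b, pr g (alt a b (orderOf (f a * f b))) = pr g (alt b a (orderOf (f a * f b))))
include hs hbr

/-- Matsumoto's theorem: two reduced words of an element have the same product in a monoid in which
the braid relations hold. -/
theorem matsu : ∀ (q : ℕ) (A B : List ι), A.length = q → B.length = q → L (pr f A) = q →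
    pr f A = pr f B → pr g A = pr g B := by
  intro q
  induction q using Nat.strong_induction_on with
  | _ q IH =>
    -- a "bad pair"
    let Bad : List ι → List ι → Prop := fun A B =>
      A.length = q ∧ B.length = q ∧ L (pr f A) = q ∧ pr f A = pr f B ∧ pr g A ≠ pr g B
    have bad_symm : ∀ {A B}, Bad A B → Bad B A := by
      rintro A B ⟨h1, h2, h3, h4, h5⟩
      exact ⟨h2, h1, by rw [← h4]; exact h3, h4.symm, h5.symm⟩
    -- step 1 of the proof
    have claim : ∀ {A B' : List ι} {b : ι}, Bad A (b :: B') → Bad A (b :: A.dropLast) := by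
      rintro A B' b ⟨h1, h2, h3, h4, h5⟩
      simp only [List.length_cons] at h2
      have hq : 0 < q := by omega
      have h7 : pr f B' = f b * pr f A := by
        rw [h4, pr_cons, hs.cancel_left]
      have hlt : L (f b * pr f A) < A.length := by
        rw [← h7, h1]
        have := hs.le B'
        omega
      obtain ⟨l₁, j, l₂, e, hj⟩ := hs.exch b A (by rw [h3, h1]) hlt
      -- the word `C`
      have hprodC : pr f (b :: (l₁ ++ l₂)) = pr f A := by
        rw [e, pr_cons, pr_append, pr_append, pr_cons, ← mul_assoc, hj, mul_assoc]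
      have hlenA : l₁.length + l₂.length + 1 = q := by
        rw [← h1, e]; simp; omega
      -- tails agree
      have htail : pr g B' = pr g (l₁ ++ l₂) := by
        refine IH (q - 1) (by omega) B' (l₁ ++ l₂) (by omega) (by simp; omega) ?_ ?_
        · have h6 := hs.le_mul b (pr f A)
          rw [h7]
          have h8 := hs.le B'
          rw [h7] at h8
          omega
        · rw [h7, ← hprodC, pr_cons, hs.cancel_left]
      have hbad : pr g A ≠ pr g (b :: (l₁ ++ l₂)) := by
        intro h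
        apply h5
        rw [h, pr_cons, pr_cons, htail]
      -- now `l₂` must be empty
      have hl₂ : l₂ = [] := by
        by_contra hne
        have hex : ∃ l₃ z, l₂ = l₃ ++ [z] := by
          rcases List.eq_nil_or_concat l₂ with h | ⟨l₃, z, h⟩
          · exact absurd h hne
          · exact ⟨l₃, z, by rw [h, List.concat_eq_append]⟩
        obtain ⟨l₃, z, rfl⟩ := hex
        apply hbad
        have ea : A = (l₁ ++ j :: l₃) ++ [z] := by rw [e]; simp
        have ec : b :: (l₁ ++ (l₃ ++ [z])) = (b :: (l₁ ++ l₃)) ++ [z] := by simp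
        have hprod2 : pr f (l₁ ++ j :: l₃) = pr f (b :: (l₁ ++ l₃)) := by
          have h6 := hprodC
          rw [ec, ea, pr_append, pr_append] at h6
          exact (mul_right_cancel h6).symm
        have hlen3 : l₁.length + l₃.length + 2 = q := by
          simp at hlenA; omega
        have hIH : pr g (l₁ ++ j :: l₃) = pr g (b :: (l₁ ++ l₃)) := by
          refine IH (q - 1) (by omega) _ _ (by simp; omega) (by simp; omega) ?_ hprod2
          have h8 := hs.le (l₁ ++ j :: l₃)
          have h9 := hs.mul_right_le z (pr f (l₁ ++ j :: l₃))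
          have h10 : pr f (l₁ ++ j :: l₃) * f z = pr f A := by
            rw [ea, pr_append f _ [z], pr_cons, pr_nil, mul_one]
          rw [h10, h3] at h9
          rw [List.length_append, List.length_cons] at h8
          omega
        rw [ea, ec, pr_append g (l₁ ++ j :: l₃) [z], pr_append g (b :: (l₁ ++ l₃)) [z], hIH]
      subst hl₂
      have hdrop : A.dropLast = l₁ := by
        rw [e]; simp
      rw [hdrop]
      simp only [List.append_nil] at hprodC hbad
      refine ⟨h1, by simp; simp at hlenA; omega, h3, hprodC.symm, hbad⟩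
    have iter : ∀ (n : ℕ) (r : List ι) (a b : ι) (k : ℕ) (B' : List ι), r.length = n →
        Bad (alt a b (k + 1) ++ r) (b :: B') → ∃ a' b', Bad (alt a' b' q) (alt b' a' q) := by
      intro n
      induction n with
      | zero =>
        intro r a b k B' hr hbad
        have hr0 : r = [] := List.length_eq_zero_iff.1 hr
        subst hr0
        simp only [List.append_nil] at hbad
        have h := claim hbad
        rw [alt_concat] at h
        have hq : k + 1 = q := by
          have := hbad.1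
          simpa using this
        refine ⟨a, b, ?_⟩
        rw [← hq]
        exact h
      | succ n ih =>
        intro r a b k B' hr hbad
        have hex : ∃ r' z, r = r' ++ [z] := by
          rcases List.eq_nil_or_concat r with h | ⟨l₃, z, h⟩
          · subst h; simp at hr
          · exact ⟨l₃, z, by rw [h, List.concat_eq_append]⟩
        obtain ⟨r', z, rfl⟩ := hex
        have h := claim hbad
        have hd : (alt a b (k + 1) ++ (r' ++ [z])).dropLast = alt a b (k + 1) ++ r' := by
          rw [← List.append_assoc, List.dropLast_concat]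
        rw [hd] at h
        have h' := bad_symm h
        have hr' : r'.length = n := by simpa using hr
        exact ih r' b a (k + 1) (alt b a k ++ (r' ++ [z])) hr' h'
    intro A B hA hB hL hAB
    by_contra hne
    cases A with
    | nil =>
      cases B with
      | nil => exact hne rfl
      | cons b B' =>
        simp only [List.length_nil, List.length_cons] at hA hB
        omega
    | cons a A' =>
      cases B with
      | nil =>
        simp only [List.length_nil, List.length_cons] at hA hB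
        omega
      | cons b B' =>
        have hbad : Bad (alt a b (0 + 1) ++ A') (b :: B') := ⟨hA, hB, hL, hAB, hne⟩
        obtain ⟨a', b', -, -, h3, h4, h5⟩ := iter _ A' a b 0 B' rfl hbad
        have h6 := pr_alt_eq f hs.sq a' b' q
        have h7 : (f a' * f b') ^ q = 1 := by
          rw [h4] at h6
          exact (mul_eq_right.1 h6.symm)
        obtain ⟨c, hc⟩ := orderOf_dvd_of_pow_eq_one h7
        set m := orderOf (f a' * f b') with hm
        have hm1 : (f a' * f b') ^ m = 1 := pow_orderOf_eq_one _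
        rcases Nat.lt_or_ge c 2 with h2 | h2
        · interval_cases c
          · rw [mul_zero] at hc
            rw [hc] at h5
            exact h5 rfl
          · rw [mul_one] at hc
            rw [hc] at h5
            exact h5 (hbr a' b')
        · have hq0 : 0 < q := by
            rw [← hA]
            simp
          have hm0 : 0 < m := by
            rcases Nat.eq_zero_or_pos m with h | h
            · rw [h, zero_mul] at hc
              omega
            · exact h
          have hkey : ∀ (j r : ℕ) (a b : ι), pr f (alt a b (2 * j + r)) =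
              (f a * f b) ^ j * pr f (alt a b r) := by
            intro j r a b
            induction j with
            | zero => simp
            | succ j ih =>
              have e : 2 * (j + 1) + r = (2 * j + r) + 1 + 1 := by omega
              rw [e, alt_succ, alt_succ, pr_cons, pr_cons, ih, pow_succ']
              group
          have hq2 : q = 2 * m + (q - 2 * m) := by
            have : 2 * m ≤ q := by
              rw [hc, mul_comm]
              exact Nat.mul_le_mul_left m h2
            omega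
          have h8 := hkey m (q - 2 * m) a' b'
          rw [← hq2, hm1, one_mul] at h8
          rw [h8] at h3
          have h9 := hs.le (alt a' b' (q - 2 * m))
          rw [h3, alt_length] at h9
          omega

/-- The function attached to a map satisfying the braid relations. -/
noncomputable def Sg (hs : Setup f L) (g : ι → H) (w : W) : H := pr g (hs.ex w).choose

omit hbr in
theorem pr_choose (w : W) : pr f (hs.ex w).choose = w := (hs.ex w).choose_spec.1

omit hbr in
theorem len_choose (w : W) : (hs.ex w).choose.length = L w := (hs.ex w).choose_spec.2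

theorem Sg_eq {l : List ι} (hl : L (pr f l) = l.length) : Sg hs g (pr f l) = pr g l := by
  refine matsu hs hbr l.length _ l ?_ rfl ?_ (pr_choose hs _)
  · rw [len_choose hs, hl]
  · rw [pr_choose hs, hl]

omit hbr in
theorem Sg_one (hL : L 1 = 0) : Sg hs g 1 = 1 := by
  have h : (hs.ex (1 : W)).choose = [] := by
    apply List.length_eq_zero_iff.1
    rw [len_choose hs, hL]
  rw [Sg, h]
  rfl

theorem Sg_mul {i : ι} {w : W} (hlt : L w < L (f i * w)) : Sg hs g (f i * w) = g i * Sg hs g w := by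
  have h1 : pr f (i :: (hs.ex w).choose) = f i * w := by
    rw [pr_cons, pr_choose hs]
  have h2 := Sg_eq hs hbr (l := i :: (hs.ex w).choose) (by
    rw [h1, List.length_cons, len_choose hs]
    have := hs.mul_le i w
    omega)
  rw [h1, pr_cons] at h2
  exact h2

end Matsu

/-! ### The characters attached to a function on `N` -/

section Val

variable {G : Type*} [Group G] [Fintype G] {P : Cfsg.BNPair G} {p : ℕ} {F : Type*} [Field F]
  [Fintype F] {ι : Type*} (S : Spl P p F ι) {k : Type*} [Field k]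

/-- The linear functional on the Hecke algebra with given values on the basis. -/
noncomputable def chiOf (val : G → k) : ↥(HH (k := k) S) →ₗ[k] k where
  toFun a := ∑ n : ↥P.N, (a : G ⧸ S.U → k) ((n : G) : G ⧸ S.U) * val (n : G)
  map_add' a b := by
    simp only [Submodule.coe_add, Pi.add_apply, add_mul, Finset.sum_add_distrib]
  map_smul' r a := by
    simp only [Submodule.coe_smul, Pi.smul_apply, smul_eq_mul, mul_assoc, RingHom.id_apply,
      Finset.mul_sum]

/-- The element of the Hecke algebra attached to an element of `N`. -/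
noncomputable def TH (n : G) : ↥(HH (k := k) S) := ⟨T S k n, T_mem_Fix S n⟩

theorem chiOf_T (val : G → k) {n : G} (hn : n ∈ P.N) : chiOf S val (TH S n) = val n := by
  show ∑ m : ↥P.N, T S k n ((m : G) : G ⧸ S.U) * val (m : G) = _
  rw [Finset.sum_eq_single (⟨n, hn⟩ : ↥P.N)]
  · rw [T_N_eval S hn hn, if_pos rfl, one_mul]
  · intro m _ hm
    rw [T_N_eval S hn m.2, if_neg, zero_mul]
    intro h
    exact hm (Subtype.ext h.symm)
  · simp

theorem eq_sum_TH (a : ↥(HH (k := k) S)) :
    a = ∑ n : ↥P.N, (a : G ⧸ S.U → k) ((n : G) : G ⧸ S.U) • TH S (n : G) := by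
  apply Subtype.ext
  rw [Submodule.coe_sum]
  exact eq_sum_T S a.2

/-- Left multiplication in the Hecke algebra. -/
noncomputable def leftMul (a : ↥(HH (k := k) S)) : ↥(HH (k := k) S) →ₗ[k] ↥(HH (k := k) S) where
  toFun b := stH S a b
  map_add' x y := by
    apply Subtype.ext
    exact phi_add_left _ _ _
  map_smul' r x := by
    apply Subtype.ext
    exact phi_smul_left _ _ _

theorem stH_assoc (a a' b : ↥(HH (k := k) S)) : stH S (stH S a a') b = stH S a (stH S a' b) := by
  apply Subtype.ext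
  exact phi_phi b.2 a'.2 _

theorem chi_of_basis (val : G → k) (L : ↥(HH (k := k) S) →ₗ[k] ↥(HH (k := k) S)) (κ : k)
    (h : ∀ n ∈ P.N, chiOf S val (L (TH S n)) = κ * val n) (b : ↥(HH (k := k) S)) :
    chiOf S val (L b) = κ * chiOf S val b := by
  conv_lhs => rw [eq_sum_TH S b]
  rw [map_sum, map_sum]
  simp only [map_smul, smul_eq_mul]
  show _ = κ * ∑ n : ↥P.N, (b : G ⧸ S.U → k) ((n : G) : G ⧸ S.U) * val (n : G)
  rw [Finset.mul_sum]
  refine Finset.sum_congr rfl fun n _ => ?_
  rw [h n n.2]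
  ring

theorem stH_T_asc {i : ι} {n : G} (hn : n ∈ P.N) (hlt : len P n < len P (S.e i * n)) :
    stH S (TH S (S.e i)) (TH S n) = (TH S (S.e i * n) : ↥(HH (k := k) S)) := by
  apply Subtype.ext
  exact phi_T_asc S hn hlt

variable (val : G → k) (μt : G → k) (c : ι → k)
  (hV1 : ∀ t ∈ P.B ⊓ P.N, ∀ n ∈ P.N, val (t * n) = μt t * val n)
  (hV2 : ∀ i, ∀ n ∈ P.N, len P n < len P (S.e i * n) → val (S.e i * n) = c i * val n)
  (hN : ∀ i, c i * ∑ a ∈ Finset.univ.erase (0 : F), μt (S.hh i (-a)) = c i * c i)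
  (h1 : val 1 = 1) (hq : (Fintype.card F : k) = 0)

include hV1 h1 in
theorem val_T {t : G} (ht : t ∈ P.B ⊓ P.N) : val t = μt t := by
  have := hV1 t ht 1 P.N.one_mem
  rwa [mul_one, h1, mul_one] at this

include hV1 in
theorem chi_torus {t : G} (ht : t ∈ P.B ⊓ P.N) (b : ↥(HH (k := k) S)) :
    chiOf S val (stH S (TH S t) b) = μt t * chiOf S val b := by
  refine chi_of_basis S val (leftMul S (TH S t)) (μt t) (fun n hn => ?_) b
  have e : leftMul S (TH S t) (TH S n) = (TH S (t * n) : ↥(HH (k := k) S)) := by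
    apply Subtype.ext
    show phi S.U (pm S.U k) (T S k n) (T S k t) = T S k (t * n)
    rw [phi_T_torus_left S (T_mem_Fix S n) ht, pm_T S ht]
  rw [e, chiOf_T S val (P.N.mul_mem ht.2 hn), hV1 t ht n hn]

include hV1 hV2 hN hq in
/-- The value of a generator on the basis. -/
theorem chi_e_basis (i : ι) {n : G} (hn : n ∈ P.N) :
    chiOf S val (stH S (TH S (S.e i)) (TH S n)) = c i * val n := by
  by_cases hlt : len P n < len P (S.e i * n)
  · rw [stH_T_asc S hn hlt, chiOf_T S val (P.N.mul_mem (e_N S i) hn), hV2 i n hn hlt]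
  · have h0 := len_mul_eq_or (S.he i) hn
    have h2 := len_inv_mul (S.he i) hn
    set n' := (S.e i)⁻¹ * n with hn'
    have hn'N : n' ∈ P.N := P.N.mul_mem (P.N.inv_mem (e_N S i)) hn
    have en : S.e i * n' = n := by
      rw [hn']
      group
    have hlt' : len P n' < len P (S.e i * n') := by
      rw [en]
      omega
    have e1 : (TH S n : ↥(HH (k := k) S)) = stH S (TH S (S.e i)) (TH S n') := by
      rw [stH_T_asc S hn'N hlt', en]
    rw [e1, ← stH_assoc]
    have e2 : stH S (stH S (TH S (S.e i)) (TH S (S.e i))) (TH S n') =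
        ∑ a ∈ Finset.univ.erase (0 : F), (TH S (S.e i * (S.hh i (-a) * n')) : ↥(HH (k := k) S)) := by
      apply Subtype.ext
      rw [Submodule.coe_sum]
      show phi S.U (pm S.U k) (T S k n') (phi S.U (pm S.U k) (T S k (S.e i)) (T S k (S.e i))) = _
      rw [phi_T_sq S hq, map_sum]
      refine Finset.sum_congr rfl fun a ha => ?_
      have ha0 : -a ≠ 0 := neg_ne_zero.2 (Finset.mem_erase.1 ha).1
      have hh := S.h_mem i (-a) ha0
      rw [phi_T_mul_torus S (T_mem_Fix S n') hh, pm_T S hh]
      have hnh : S.hh i (-a) * n' ∈ P.N := P.N.mul_mem hh.2 hn'N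
      refine phi_T_asc S hnh ?_
      rw [len_torus_mul S hh hn'N]
      have e3 : S.e i * (S.hh i (-a) * n') = (S.e i * S.hh i (-a) * (S.e i)⁻¹) * (S.e i * n') := by
        group
      rw [e3, len_torus_mul S (conj_T' S (e_N S i) hh) (P.N.mul_mem (e_N S i) hn'N)]
      exact hlt'
    rw [e2, map_sum]
    have e4 : ∀ a ∈ Finset.univ.erase (0 : F),
        chiOf S val (TH S (S.e i * (S.hh i (-a) * n'))) = c i * (μt (S.hh i (-a)) * val n') := by
      intro a ha
      have ha0 : -a ≠ 0 := neg_ne_zero.2 (Finset.mem_erase.1 ha).1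
      have hh := S.h_mem i (-a) ha0
      have hnh : S.hh i (-a) * n' ∈ P.N := P.N.mul_mem hh.2 hn'N
      rw [chiOf_T S val (P.N.mul_mem (e_N S i) hnh), hV2 i _ hnh, hV1 _ hh _ hn'N]
      rw [len_torus_mul S hh hn'N]
      have e3 : S.e i * (S.hh i (-a) * n') = (S.e i * S.hh i (-a) * (S.e i)⁻¹) * (S.e i * n') := by
        group
      rw [e3, len_torus_mul S (conj_T' S (e_N S i) hh) (P.N.mul_mem (e_N S i) hn'N)]
      exact hlt'
    rw [Finset.sum_congr rfl e4, ← Finset.mul_sum, ← Finset.sum_mul, ← mul_assoc, hN i, mul_assoc,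
      ← hV2 i n' hn'N hlt', en]

include hV1 hV2 hN h1 hq in
/-- The value on a product with a basis element. -/
theorem chi_T_mul : ∀ (m : ℕ) (x : G), x ∈ P.N → len P x = m → ∀ b : ↥(HH (k := k) S),
    chiOf S val (stH S (TH S x) b) = val x * chiOf S val b := by
  intro m
  induction m with
  | zero =>
    intro x hx h0 b
    have hxB := (len_eq_zero_iff hx).1 h0
    rw [chi_torus S val μt hV1 ⟨hxB, hx⟩ b, val_T val μt hV1 h1 ⟨hxB, hx⟩]
  | succ m ih =>
    intro x hx hm b
    obtain ⟨s, hs, n', hn', rfl, hlen⟩ := decomp_left hx hm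
    obtain ⟨i, rfl⟩ := S.hes s hs
    have hlt : len P n' < len P (S.e i * n') := by omega
    rw [← stH_T_asc S hn' hlt, stH_assoc]
    have h2 : ∀ b' : ↥(HH (k := k) S), chiOf S val (stH S (TH S (S.e i)) b') = c i * chiOf S val b' :=
      fun b' => chi_of_basis S val (leftMul S (TH S (S.e i))) (c i)
        (fun n hn => chi_e_basis S val μt c hV1 hV2 hN hq i hn) b'
    rw [h2, ih n' hn' hlen b, ← mul_assoc, ← hV2 i n' hn' hlt]

include hV1 hV2 hN h1 hq in
/-- A function on `N` with the expected properties defines a character. -/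
theorem isChi_chiOf : IsChi S (chiOf S val) := by
  refine ⟨?_, ?_⟩
  · have e : oneH S = (TH S (1 : G) : ↥(HH (k := k) S)) := by
      apply Subtype.ext
      exact (T_one S).symm
    rw [e, chiOf_T S val P.N.one_mem, h1]
  · intro a b
    have e : stH S a b = ∑ n : ↥P.N, (a : G ⧸ S.U → k) ((n : G) : G ⧸ S.U) • stH S (TH S (n : G)) b := by
      apply Subtype.ext
      rw [Submodule.coe_sum]
      show phi S.U (pm S.U k) (b : G ⧸ S.U → k) (a : G ⧸ S.U → k) = _
      conv_lhs => rw [eq_sum_T S a.2]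
      rw [map_sum]
      refine Finset.sum_congr rfl fun n _ => ?_
      rw [map_smul]
      rfl
    rw [e, map_sum]
    show _ = (∑ n : ↥P.N, (a : G ⧸ S.U → k) ((n : G) : G ⧸ S.U) * val (n : G)) * _
    rw [Finset.sum_mul]
    refine Finset.sum_congr rfl fun n _ => ?_
    rw [map_smul, chi_T_mul S val μt c hV1 hV2 hN h1 hq _ (n : G) n.2 rfl b, smul_eq_mul, mul_assoc]

end Val

/-! ### Numerics -/

section Numerics

variable {F : Type*} [Field F] [Fintype F] {k : Type*} [Field k]

theorem sum_erase_neg (g : F → k) :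
    ∑ a ∈ Finset.univ.erase (0 : F), g (-a) = ∑ x : Fˣ, g (x : F) := by
  symm
  refine Finset.sum_bij (fun x _ => -(x : F)) ?_ ?_ ?_ ?_
  · intro x _
    exact Finset.mem_erase.2 ⟨neg_ne_zero.2 x.ne_zero, Finset.mem_univ _⟩
  · intro x _ y _ h
    exact Units.ext (neg_injective h)
  · intro a ha
    have ha0 : a ≠ 0 := (Finset.mem_erase.1 ha).1
    exact ⟨Units.mk0 (-a) (neg_ne_zero.2 ha0), Finset.mem_univ _, by simp⟩
  · intro x _
    simp

theorem sum_char_of_ne_one {ν : Fˣ →* kˣ} (h : ν ≠ 1) : ∑ x : Fˣ, ((ν x : kˣ) : k) = 0 := by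
  obtain ⟨b, hb⟩ : ∃ b, ν b ≠ 1 := by
    by_contra hno
    push Not at hno
    exact h (MonoidHom.ext hno)
  have h1 : ∑ x : Fˣ, ((ν (b * x) : kˣ) : k) = ∑ x : Fˣ, ((ν x : kˣ) : k) :=
    Equiv.sum_comp (Equiv.mulLeft b) fun x => ((ν x : kˣ) : k)
  simp only [map_mul, Units.val_mul] at h1
  rw [← Finset.mul_sum] at h1
  have h2 : ((ν b : kˣ) : k) - 1 ≠ 0 := by
    intro h3
    apply hb
    apply Units.ext
    simpa using sub_eq_zero.1 h3
  have h3 : (((ν b : kˣ) : k) - 1) * ∑ x : Fˣ, ((ν x : kˣ) : k) = 0 := by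
    rw [sub_mul, h1, one_mul, sub_self]
  exact (mul_eq_zero.1 h3).resolve_left h2

theorem card_units_cast (hq : (Fintype.card F : k) = 0) : ((Fintype.card Fˣ : ℕ) : k) = -1 := by
  have h1 : Fintype.card Fˣ + 1 = Fintype.card F := by
    rw [Fintype.card_units]
    have := Fintype.card_pos (α := F)
    omega
  have h2 : ((Fintype.card Fˣ + 1 : ℕ) : k) = 0 := by rw [h1, hq]
  rw [Nat.cast_add, Nat.cast_one] at h2
  exact eq_neg_of_add_eq_zero_left h2

theorem sum_char_one (hq : (Fintype.card F : k) = 0) :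
    ∑ x : Fˣ, (((1 : Fˣ →* kˣ) x : kˣ) : k) = -1 := by
  simp only [MonoidHom.one_apply, Units.val_one, Finset.sum_const, Finset.card_univ, nsmul_eq_mul,
    mul_one]
  exact card_units_cast hq

theorem card_hom [IsAlgClosed k] (hq : (Fintype.card F : k) = 0) :
    Nat.card (Fˣ →* kˣ) = Fintype.card F - 1 := by
  have hne : ((Monoid.exponent Fˣ : ℕ) : k) ≠ 0 := by
    have hd : Monoid.exponent Fˣ ∣ Fintype.card Fˣ := Group.exponent_dvd_card (G := Fˣ)
    obtain ⟨m, hm⟩ := hd
    intro h
    have h2 := card_units_cast hq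
    rw [hm, Nat.cast_mul, h, zero_mul] at h2
    have : (1 : k) = 0 := by
      have := congrArg (fun x : k => -x) h2
      simpa using this.symm
    exact one_ne_zero this
  have : NeZero ((Monoid.exponent Fˣ : ℕ) : k) := ⟨hne⟩
  have : HasEnoughRootsOfUnity k (Monoid.exponent Fˣ) := inferInstance
  rw [CommGroup.card_monoidHom_of_hasEnoughRootsOfUnity, Nat.card_eq_fintype_card, Fintype.card_units]

/-- Pairs of a character and a sign. -/
abbrev Xi (F k : Type*) [Field F] [Field k] : Type _ := {x : (Fˣ →* kˣ) × Bool // x.2 = true → x.1 = 1}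

theorem card_Xi [IsAlgClosed k] (hq : (Fintype.card F : k) = 0) :
    Nat.card (Xi F k) = Fintype.card F := by
  have : Finite (Fˣ →* kˣ) := by
    apply Nat.finite_of_card_ne_zero
    rw [card_hom hq]
    have := Fintype.one_lt_card (α := F)
    omega
  let e : Xi F k ≃ (Fˣ →* kˣ) ⊕ Unit :=
    { toFun := fun x => if x.1.2 then Sum.inr () else Sum.inl x.1.1
      invFun := fun y => match y with
        | Sum.inl ν => ⟨(ν, false), by simp⟩
        | Sum.inr _ => ⟨(1, true), fun _ => rfl⟩
      left_inv := by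
        rintro ⟨⟨ν, b⟩, h⟩
        cases b with
        | false => rfl
        | true =>
          have := h rfl
          simp only at this
          subst this
          rfl
      right_inv := by
        rintro (ν | u)
        · rfl
        · rfl }
  rw [Nat.card_congr e, Nat.card_sum, card_hom hq]
  have := Fintype.card_pos (α := F)
  simp only [Nat.card_eq_fintype_card, Fintype.card_unit]
  omega

end Numerics

section Braid

variable {W ι : Type*} [Group W] [Finite W] {f : ι → W} {L : W → ℕ} {k : Type*} [Field k]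

theorem pr_alt_neg_one (c : ι → k) {a b : ι} (ha : c a = -1) (hb : c b = -1) (m : ℕ) :
    pr c (alt a b m) = (-1) ^ m ∧ pr c (alt b a m) = (-1) ^ m := by
  induction m with
  | zero => simp
  | succ m ih =>
    rw [alt_succ, alt_succ, pr_cons, pr_cons, ih.1, ih.2, ha, hb, pow_succ']
    simp

theorem c_braid (hs : Setup f L) (hinj : Function.Injective f) (c : ι → k)
    (hc : ∀ i, c i = 0 ∨ c i = -1) (a b : ι) :
    pr c (alt a b (orderOf (f a * f b))) = pr c (alt b a (orderOf (f a * f b))) := by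
  by_cases hab : a = b
  · subst hab
    rfl
  have h0 : orderOf (f a * f b) ≠ 0 := (orderOf_pos _).ne'
  have h1 : orderOf (f a * f b) ≠ 1 := by
    intro h
    rw [orderOf_eq_one_iff] at h
    apply hab
    apply hinj
    have h2 := hs.sq b
    calc f a = f a * (f b * f b) := by rw [h2, mul_one]
      _ = f a * f b * f b := by group
      _ = f b := by rw [h, one_mul]
  obtain ⟨m, hm⟩ : ∃ m, orderOf (f a * f b) = m + 2 := ⟨orderOf (f a * f b) - 2, by omega⟩
  rw [hm]
  rcases hc a with ha | ha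
  · simp [ha]
  rcases hc b with hb | hb
  · simp [hb]
  exact (pr_alt_neg_one c ha hb _).1.trans (pr_alt_neg_one c ha hb _).2.symm

end Braid

/-! ### The torus and the count -/

section Count

variable {G : Type*} [Group G] [Fintype G] {P : Cfsg.BNPair G} {p : ℕ} {F : Type*} [Field F]
  [Fintype F] {ι : Type*} [Fintype ι] [DecidableEq ι]

/-- The extra structure of a split `(B,N)`-pair used to count the characters. -/
structure Tor (S : Spl P p F ι) where
  tau : ↥(P.B ⊓ P.N) ≃* (ι → Fˣ)
  tau_h : ∀ i (a : Fˣ), tau ⟨S.hh i a, S.h_mem i a a.ne_zero⟩ = Pi.mulSingle i a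
  braid : ∀ a b, pr S.e (alt a b (orderOf (ff S.e S.he a * ff S.e S.he b))) =
    pr S.e (alt b a (orderOf (ff S.e S.he a * ff S.e S.he b)))
  refl : ∀ i, ∀ t ∈ P.B ⊓ P.N, ∃ a : Fˣ, S.e i * t * (S.e i)⁻¹ = t * S.hh i a
  f_inj : Function.Injective (ff S.e S.he)

variable {k : Type*} [Field k] (S : Spl P p F ι) (D : Tor S)

/-- A character of the torus as a function on the group. -/
noncomputable def muT (μ : ↥(P.B ⊓ P.N) →* kˣ) (x : G) : k :=
  if h : x ∈ P.B ⊓ P.N then ((μ ⟨x, h⟩ : kˣ) : k) else 0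

theorem muT_mem (μ : ↥(P.B ⊓ P.N) →* kˣ) {x : G} (h : x ∈ P.B ⊓ P.N) :
    muT μ x = ((μ ⟨x, h⟩ : kˣ) : k) := dif_pos h

theorem muT_mul (μ : ↥(P.B ⊓ P.N) →* kˣ) {x y : G} (hx : x ∈ P.B ⊓ P.N) (hy : y ∈ P.B ⊓ P.N) :
    muT μ (x * y) = muT μ x * muT μ y := by
  rw [muT_mem μ hx, muT_mem μ hy, muT_mem μ (Subgroup.mul_mem _ hx hy), ← Units.val_mul, ← map_mul]
  rfl

theorem muT_one (μ : ↥(P.B ⊓ P.N) →* kˣ) : muT μ (1 : G) = 1 := by
  rw [muT_mem μ (Subgroup.one_mem _)]
  have : (⟨1, Subgroup.one_mem _⟩ : ↥(P.B ⊓ P.N)) = 1 := rfl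
  rw [this, map_one, Units.val_one]

omit [Fintype ι] [DecidableEq ι] in
theorem pr_e_N (l : List ι) : pr S.e l ∈ P.N := by
  induction l with
  | nil => exact P.N.one_mem
  | cons i l ih =>
    rw [pr_cons]
    exact P.N.mul_mem (e_N S i) ih

omit [Fintype ι] [DecidableEq ι] in
theorem mk_pr_e (l : List ι) : (QuotientGroup.mk ⟨pr S.e l, pr_e_N S l⟩ : WW P) =
    pr (ff S.e S.he) l := by
  induction l with
  | nil => rfl
  | cons i l ih =>
    rw [pr_cons (ff S.e S.he), ← ih]
    rfl

/-- The section of `N → W`. -/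
noncomputable abbrev Sec (w : WW P) : G := Sg (setupS S) S.e w

omit [Fintype ι] [DecidableEq ι] in
theorem Sec_mem (w : WW P) : Sec S w ∈ P.N := pr_e_N S _

omit [Fintype ι] [DecidableEq ι] in
theorem mk_Sec (w : WW P) : (QuotientGroup.mk ⟨Sec S w, Sec_mem S w⟩ : WW P) = w := by
  have := mk_pr_e S (setupS S |>.ex w).choose
  rw [pr_choose (setupS S)] at this
  exact this

omit [Fintype ι] [DecidableEq ι] in
theorem Sec_inv_mul {n : G} (hn : n ∈ P.N) : (Sec S (QuotientGroup.mk ⟨n, hn⟩))⁻¹ * n ∈ P.B ⊓ P.N := by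
  refine ⟨?_, P.N.mul_mem (P.N.inv_mem (Sec_mem S _)) hn⟩
  have h := mk_Sec S (QuotientGroup.mk ⟨n, hn⟩ : WW P)
  exact (mk_eq _ _).1 h

/-- The values of the character attached to `μ` and `c`. -/
noncomputable def val (μ : ↥(P.B ⊓ P.N) →* kˣ) (c : ι → k) (n : G) : k :=
  if h : n ∈ P.N then
    Sg (setupS S) c (QuotientGroup.mk ⟨n, h⟩) * muT μ ((Sec S (QuotientGroup.mk ⟨n, h⟩))⁻¹ * n)
  else 0

theorem val_mem (μ : ↥(P.B ⊓ P.N) →* kˣ) (c : ι → k) {n : G} (h : n ∈ P.N) :
    val S μ c n =
      Sg (setupS S) c (QuotientGroup.mk ⟨n, h⟩) * muT μ ((Sec S (QuotientGroup.mk ⟨n, h⟩))⁻¹ * n) :=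
  dif_pos h

/-- Invariance under reduced words with nonzero value. -/
theorem inv_of_pr {μ : ↥(P.B ⊓ P.N) →* kˣ} {c : ι → k}
    (hinv : ∀ i, c i ≠ 0 → ∀ t ∈ P.B ⊓ P.N, muT μ ((S.e i)⁻¹ * t * S.e i) = muT μ t)
    (l : List ι) (hl : pr c l ≠ 0) : ∀ t ∈ P.B ⊓ P.N, muT μ ((pr S.e l)⁻¹ * t * pr S.e l) = muT μ t := by
  induction l with
  | nil =>
    intro t _
    simp
  | cons i l ih =>
    intro t ht
    rw [pr_cons] at hl
    have hi : c i ≠ 0 := left_ne_zero_of_mul hl
    have hl' : pr c l ≠ 0 := right_ne_zero_of_mul hl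
    have ht' : (S.e i)⁻¹ * t * S.e i ∈ P.B ⊓ P.N := conj_T S (e_N S i) ht
    have e : (pr S.e (i :: l))⁻¹ * t * pr S.e (i :: l) =
        (pr S.e l)⁻¹ * ((S.e i)⁻¹ * t * S.e i) * pr S.e l := by
      rw [pr_cons]
      group
    rw [e, ih hl' _ ht', hinv i hi t ht]

variable [CharP k p]

variable {μ : ↥(P.B ⊓ P.N) →* kˣ} {c : ι → k} (hc : ∀ i, c i = 0 ∨ c i = -1)
  (hinv : ∀ i, c i ≠ 0 → ∀ t ∈ P.B ⊓ P.N, muT μ ((S.e i)⁻¹ * t * S.e i) = muT μ t)

include hinv in
theorem val_V1 {t n : G} (ht : t ∈ P.B ⊓ P.N) (hn : n ∈ P.N) :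
    val S μ c (t * n) = muT μ t * val S μ c n := by
  have htn : t * n ∈ P.N := P.N.mul_mem ht.2 hn
  have emk : (QuotientGroup.mk ⟨t * n, htn⟩ : WW P) = QuotientGroup.mk ⟨n, hn⟩ := by
    rw [mk_eq]
    have e : (t * n)⁻¹ * n = n⁻¹ * t⁻¹ * n := by group
    show (t * n)⁻¹ * n ∈ P.B
    rw [e]
    exact (conj_T S hn (Subgroup.inv_mem _ ht)).1
  rw [val_mem S μ c htn, val_mem S μ c hn, emk]
  set w : WW P := QuotientGroup.mk ⟨n, hn⟩ with hw
  by_cases h0 : Sg (setupS S) c w = 0
  · rw [h0, zero_mul, zero_mul, mul_zero]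
  have hs0 := Sec_inv_mul S hn
  rw [← hw] at hs0
  have hconj : (Sec S w)⁻¹ * t * Sec S w ∈ P.B ⊓ P.N := conj_T S (Sec_mem S w) ht
  have e : (Sec S w)⁻¹ * (t * n) = ((Sec S w)⁻¹ * t * Sec S w) * ((Sec S w)⁻¹ * n) := by group
  rw [e, muT_mul μ hconj hs0]
  have h1 := inv_of_pr S hinv (setupS S |>.ex w).choose h0 t ht
  have h2 : muT μ ((Sec S w)⁻¹ * t * Sec S w) = muT μ t := h1
  rw [h2]
  ring

include D hc in
theorem val_V2 (i : ι) {n : G} (hn : n ∈ P.N) (hlt : len P n < len P (S.e i * n)) :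
    val S μ c (S.e i * n) = c i * val S μ c n := by
  have hen : S.e i * n ∈ P.N := P.N.mul_mem (e_N S i) hn
  have emk : (QuotientGroup.mk ⟨S.e i * n, hen⟩ : WW P) = ff S.e S.he i * QuotientGroup.mk ⟨n, hn⟩ := rfl
  rw [val_mem S μ c hen, val_mem S μ c hn, emk]
  have hL : LL P (QuotientGroup.mk ⟨n, hn⟩ : WW P) < LL P (ff S.e S.he i * QuotientGroup.mk ⟨n, hn⟩) := by
    rw [← emk, LL_mk, LL_mk]
    exact hlt
  have hs := setupS S
  have hSec : Sec S (ff S.e S.he i * QuotientGroup.mk ⟨n, hn⟩) = S.e i * Sec S (QuotientGroup.mk ⟨n, hn⟩) :=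
    Sg_mul (setupS S) D.braid hL
  rw [Sg_mul (setupS S) (c_braid hs D.f_inj c hc) hL, hSec, mul_inv_rev]
  have e : (Sec S (QuotientGroup.mk ⟨n, hn⟩))⁻¹ * (S.e i)⁻¹ * (S.e i * n) =
      (Sec S (QuotientGroup.mk ⟨n, hn⟩))⁻¹ * n := by group
  rw [e, mul_assoc]

omit [CharP k p] in
theorem val_one : val S μ c (1 : G) = 1 := by
  have h1 : (QuotientGroup.mk ⟨1, P.N.one_mem⟩ : WW P) = 1 := rfl
  have h2 : Sec S (1 : WW P) = 1 := Sg_one (setupS S) (len_one (setupS S))
  rw [val_mem S μ c P.N.one_mem, h1, Sg_one (setupS S) (len_one (setupS S)), h2,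
    one_mul, inv_one, one_mul, muT_one]

/-- The coroots as homomorphisms into the torus. -/
noncomputable def hI (i : ι) : Fˣ →* ↥(P.B ⊓ P.N) :=
  D.tau.symm.toMonoidHom.comp (MonoidHom.mulSingle (fun _ : ι => Fˣ) i)

theorem hI_apply (i : ι) (a : Fˣ) : hI S D i a = ⟨S.hh i a, S.h_mem i a a.ne_zero⟩ := by
  show D.tau.symm (Pi.mulSingle i a) = _
  rw [← D.tau_h i a, MulEquiv.symm_apply_apply]

theorem hI_coe (i : ι) (a : Fˣ) : ((hI S D i a : ↥(P.B ⊓ P.N)) : G) = S.hh i a := by
  rw [hI_apply]

variable (hq : (Fintype.card F : k) = 0)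

include hq in
/-- The construction of characters. -/
theorem exists_chi_of (μ : ↥(P.B ⊓ P.N) →* kˣ) {c : ι → k} (hc : ∀ i, c i = 0 ∨ c i = -1)
    (hone : ∀ i, c i ≠ 0 → μ.comp (hI S D i) = 1) :
    IsChi S (chiOf S (val S μ c)) ∧ (∀ t ∈ P.B ⊓ P.N, chiOf S (val S μ c) (TH S t) = muT μ t) ∧
      ∀ i, chiOf S (val S μ c) (TH S (S.e i)) = c i := by
  have hmuh : ∀ i, c i ≠ 0 → ∀ a : Fˣ, muT μ (S.hh i a) = 1 := by
    intro i hi a
    have h1 : μ (hI S D i a) = 1 := DFunLike.congr_fun (hone i hi) a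
    rw [hI_apply] at h1
    rw [muT_mem μ (S.h_mem i a a.ne_zero), h1, Units.val_one]
  have hinv : ∀ i, c i ≠ 0 → ∀ t ∈ P.B ⊓ P.N, muT μ ((S.e i)⁻¹ * t * S.e i) = muT μ t := by
    intro i hi t ht
    have ht' : (S.e i)⁻¹ * t * S.e i ∈ P.B ⊓ P.N := conj_T S (e_N S i) ht
    obtain ⟨a, ha⟩ := D.refl i _ ht'
    have e : S.e i * ((S.e i)⁻¹ * t * S.e i) * (S.e i)⁻¹ = t := by group
    rw [e] at ha
    conv_rhs => rw [ha]
    rw [muT_mul μ ht' (S.h_mem i a a.ne_zero), hmuh i hi a, mul_one]
  have hV1 : ∀ t ∈ P.B ⊓ P.N, ∀ n ∈ P.N, val S μ c (t * n) = muT μ t * val S μ c n :=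
    fun t ht n hn => val_V1 (p := p) S hinv ht hn
  have hV2 : ∀ i, ∀ n ∈ P.N, len P n < len P (S.e i * n) →
      val S μ c (S.e i * n) = c i * val S μ c n :=
    fun i n hn hlt => val_V2 (p := p) S D hc i hn hlt
  have hN : ∀ i, c i * ∑ a ∈ Finset.univ.erase (0 : F), muT μ (S.hh i (-a)) = c i * c i := by
    intro i
    rcases hc i with h | h
    · rw [h, zero_mul, zero_mul]
    · have hi : c i ≠ 0 := by
        rw [h]
        exact neg_ne_zero.2 one_ne_zero
      rw [sum_erase_neg (fun a => muT μ (S.hh i a))]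
      simp only [hmuh i hi]
      rw [Finset.sum_const, Finset.card_univ, nsmul_eq_mul, mul_one, card_units_cast hq, h]
  have h1 : val S μ c (1 : G) = 1 := val_one S
  refine ⟨isChi_chiOf S _ _ c hV1 hV2 hN h1 hq, fun t ht => ?_, fun i => ?_⟩
  · rw [chiOf_T S _ ht.2, val_T _ _ hV1 h1 ht]
  · rw [chiOf_T S _ (e_N S i)]
    have h2 := hV2 i 1 P.N.one_mem (by
      rw [mul_one, (len_eq_zero_iff P.N.one_mem).2 P.B.one_mem]
      have := len_ne (S.he i) P.N.one_mem
      rw [mul_one, (len_eq_zero_iff P.N.one_mem).2 P.B.one_mem] at this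
      omega)
    rwa [mul_one, h1, mul_one] at h2

/-! ### From a character to the data -/

variable {χ : ↥(HH (k := k) S) →ₗ[k] k}

omit [Fintype ι] [DecidableEq ι] in
/-- The restriction of a character to the torus. -/
noncomputable def resM (hχ : IsChi S χ) : ↥(P.B ⊓ P.N) →* k where
  toFun t := χ (TH S (t : G))
  map_one' := by
    have e : oneH S = (TH S (1 : G) : ↥(HH (k := k) S)) := by
      apply Subtype.ext
      exact (T_one S).symm
    rw [Subgroup.coe_one, ← e, hχ.map_one]
  map_mul' a b := by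
    have e : (TH S ((a : G) * (b : G)) : ↥(HH (k := k) S)) = stH S (TH S (a : G)) (TH S (b : G)) := by
      apply Subtype.ext
      show T S k ((a : G) * (b : G)) = phi S.U (pm S.U k) (T S k (b : G)) (T S k (a : G))
      rw [phi_T_torus_left S (T_mem_Fix S _) a.2, pm_T S a.2]
    rw [Subgroup.coe_mul, e, hχ.map_mul]

omit [Fintype ι] [DecidableEq ι] in
theorem resM_apply (hχ : IsChi S χ) (t : ↥(P.B ⊓ P.N)) : resM S hχ t = χ (TH S (t : G)) := rfl

/-- The restriction of a character to the torus, with values in units. -/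
noncomputable def resU (hχ : IsChi S χ) : ↥(P.B ⊓ P.N) →* kˣ := (resM S hχ).toHomUnits

theorem resU_coe (hχ : IsChi S χ) (t : ↥(P.B ⊓ P.N)) : ((resU S hχ t : kˣ) : k) = χ (TH S (t : G)) := by
  rw [resU, MonoidHom.coe_toHomUnits]
  rfl

theorem TH_e_mul_torus (i : ι) {t : G} (ht : t ∈ P.B ⊓ P.N) :
    (TH S (S.e i * t) : ↥(HH (k := k) S)) = stH S (TH S (S.e i)) (TH S t) := by
  apply Subtype.ext
  show T S k (S.e i * t) = phi S.U (pm S.U k) (T S k t) (T S k (S.e i))
  rw [phi_T_torus S ht]

include hq in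
/-- The relation for the generators. -/
theorem c_sq (hχ : IsChi S χ) (i : ι) :
    χ (TH S (S.e i)) * χ (TH S (S.e i)) =
      χ (TH S (S.e i)) * ∑ x : Fˣ, ((resU S hχ (hI S D i x) : kˣ) : k) := by
  have e : stH S (TH S (S.e i)) (TH S (S.e i)) =
      ∑ a ∈ Finset.univ.erase (0 : F), (TH S (S.e i * S.hh i (-a)) : ↥(HH (k := k) S)) := by
    apply Subtype.ext
    rw [Submodule.coe_sum]
    exact phi_T_sq S hq i
  rw [← hχ.map_mul, e, map_sum]
  have e2 : ∀ a ∈ Finset.univ.erase (0 : F), χ (TH S (S.e i * S.hh i (-a))) =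
      χ (TH S (S.e i)) * χ (TH S (S.hh i (-a))) := by
    intro a ha
    have ha0 : -a ≠ 0 := neg_ne_zero.2 (Finset.mem_erase.1 ha).1
    rw [TH_e_mul_torus S i (S.h_mem i _ ha0), hχ.map_mul]
  rw [Finset.sum_congr rfl e2, ← Finset.mul_sum]
  congr 1
  rw [sum_erase_neg (fun a => χ (TH S (S.hh i a)))]
  refine Finset.sum_congr rfl fun x _ => ?_
  rw [resU_coe, hI_coe]

include hq in
theorem c_cases (hχ : IsChi S χ) (i : ι) :
    χ (TH S (S.e i)) = 0 ∨ (χ (TH S (S.e i)) = -1 ∧ (resU S hχ).comp (hI S D i) = 1) := by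
  by_cases h0 : χ (TH S (S.e i)) = 0
  · exact Or.inl h0
  right
  have h1 := mul_left_cancel₀ h0 (c_sq S D hq hχ i)
  by_cases hν : (resU S hχ).comp (hI S D i) = 1
  · refine ⟨?_, hν⟩
    rw [h1, ← sum_char_one (F := F) (k := k) hq]
    refine Finset.sum_congr rfl fun x _ => ?_
    rw [← hν]
    rfl
  · exfalso
    apply h0
    rw [h1]
    exact sum_char_of_ne_one hν

include hq in
/-- A character is determined by its values on the torus and the generators. -/
theorem chi_ext {χ' : ↥(HH (k := k) S) →ₗ[k] k} (hχ : IsChi S χ) (hχ' : IsChi S χ')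
    (ht : ∀ t ∈ P.B ⊓ P.N, χ (TH S t) = χ' (TH S t))
    (he : ∀ i, χ (TH S (S.e i)) = χ' (TH S (S.e i))) : χ = χ' := by
  have key : ∀ (m : ℕ) (x : G), x ∈ P.N → len P x = m → χ (TH S x) = χ' (TH S x) := by
    intro m
    induction m with
    | zero =>
      intro x hx h0
      exact ht x ⟨(len_eq_zero_iff hx).1 h0, hx⟩
    | succ m ih =>
      intro x hx hm
      obtain ⟨s, hs, n', hn', rfl, hlen⟩ := decomp_left hx hm
      obtain ⟨i, rfl⟩ := S.hes s hs
      have hlt : len P n' < len P (S.e i * n') := by omega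
      rw [← stH_T_asc S hn' hlt, hχ.map_mul, hχ'.map_mul, he, ih n' hn' hlen]
  ext a
  rw [eq_sum_TH S a, map_sum, map_sum]
  refine Finset.sum_congr rfl fun n _ => ?_
  rw [map_smul, map_smul, key _ n n.2 rfl]

include D hq in
/-- **The number of characters of the Hecke algebra.** -/
theorem card_chi_eq [IsAlgClosed k] :
    Nat.card {χ : ↥(HH (k := k) S) →ₗ[k] k // IsChi S χ} = Fintype.card F ^ Fintype.card ι := by
  classical
  let Φ : {χ : ↥(HH (k := k) S) →ₗ[k] k // IsChi S χ} → (ι → Xi F k) := fun χ i =>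
    ⟨((resU S χ.2).comp (hI S D i), decide (χ.1 (TH S (S.e i)) ≠ 0)), by
      intro h
      have h0 : χ.1 (TH S (S.e i)) ≠ 0 := of_decide_eq_true h
      rcases c_cases S D hq χ.2 i with h1 | h1
      · exact absurd h1 h0
      · exact h1.2⟩
  have hinj : Function.Injective Φ := by
    rintro ⟨χ, hχ⟩ ⟨χ', hχ'⟩ h
    apply Subtype.ext
    have h1 : ∀ i, (resU S hχ).comp (hI S D i) = (resU S hχ').comp (hI S D i) := fun i =>
      congrArg (fun x : Xi F k => x.1.1) (congrFun h i)
    have h2 : ∀ i, decide (χ (TH S (S.e i)) ≠ 0) = decide (χ' (TH S (S.e i)) ≠ 0) := fun i =>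
      congrArg (fun x : Xi F k => x.1.2) (congrFun h i)
    have h3 : resU S hχ = resU S hχ' := by
      have h4 : (resU S hχ).comp D.tau.symm.toMonoidHom = (resU S hχ').comp D.tau.symm.toMonoidHom := by
        apply MonoidHom.functions_ext
        intro i x
        exact DFunLike.congr_fun (h1 i) x
      ext t
      have h5 := DFunLike.congr_fun h4 (D.tau t)
      simp only [MonoidHom.comp_apply] at h5
      have h6 : D.tau.symm.toMonoidHom (D.tau t) = t := D.tau.symm_apply_apply t
      rw [h6] at h5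
      rw [h5]
    apply chi_ext S hq hχ hχ'
    · intro t ht
      have := congrArg (fun ν : ↥(P.B ⊓ P.N) →* kˣ => ((ν ⟨t, ht⟩ : kˣ) : k)) h3
      simpa only [resU_coe] using this
    · intro i
      have h4 := h2 i
      rcases c_cases S D hq hχ i with h5 | h5 <;> rcases c_cases S D hq hχ' i with h6 | h6
      · rw [h5, h6]
      · exfalso
        rw [h5, h6.1] at h4
        simp at h4
      · exfalso
        rw [h5.1, h6] at h4
        simp at h4
      · rw [h5.1, h6.1]
  have hsurj : Function.Surjective Φ := by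
    intro x
    let ν : ι → (Fˣ →* kˣ) := fun i => (x i).1.1
    let b : ι → Bool := fun i => (x i).1.2
    have hb : ∀ i, b i = true → ν i = 1 := fun i => (x i).2
    let μ : ↥(P.B ⊓ P.N) →* kˣ :=
      { toFun := fun t => ∏ i, ν i (D.tau t i)
        map_one' := by simp
        map_mul' := by
          intro s t
          simp [Finset.prod_mul_distrib] }
    have hμ : ∀ i, μ.comp (hI S D i) = ν i := by
      intro i
      ext a
      show ((∏ j, ν j (D.tau (hI S D i a) j) : kˣ) : k) = _
      have e : D.tau (hI S D i a) = Pi.mulSingle i a := D.tau.apply_symm_apply _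
      rw [e, Finset.prod_eq_single i]
      · rw [Pi.mulSingle_eq_same]
      · intro j _ hj
        rw [Pi.mulSingle_eq_of_ne hj, map_one]
      · simp
    let c : ι → k := fun i => if b i then -1 else 0
    have hc : ∀ i, c i = 0 ∨ c i = -1 := by
      intro i
      by_cases h : b i = true
      · right
        simp [c, h]
      · left
        simp [c, h]
    have hone : ∀ i, c i ≠ 0 → μ.comp (hI S D i) = 1 := by
      intro i hi
      rw [hμ, hb i]
      by_contra h
      have hf : b i = false := by simpa using h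
      simp [c, hf] at hi
    obtain ⟨h1, h2, h3⟩ := exists_chi_of S D hq μ hc hone
    refine ⟨⟨_, h1⟩, ?_⟩
    funext i
    apply Subtype.ext
    apply Prod.ext
    · show (resU S h1).comp (hI S D i) = ν i
      rw [← hμ]
      ext a
      show ((resU S h1 (hI S D i a) : kˣ) : k) = ((μ (hI S D i a) : kˣ) : k)
      rw [resU_coe, h2 _ (hI S D i a).2, muT_mem μ (hI S D i a).2]
    · show decide (chiOf S (val S μ c) (TH S (S.e i)) ≠ 0) = b i
      rw [h3 i]
      by_cases h : b i = true
      · rw [h]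
        simp [c, h]
      · have hf : b i = false := by simpa using h
        rw [hf]
        simp [c, hf]
  rw [Nat.card_congr (Equiv.ofBijective Φ ⟨hinj, hsurj⟩), Nat.card_fun, card_Xi hq,
    Nat.card_eq_fintype_card]

end Count

/-- **Steinberg's count of the semisimple classes, in abstract form.** -/
theorem card_regCl_eq {G : Type*} [Group G] [Fintype G] {P : Cfsg.BNPair G} {p : ℕ} {F : Type*} [Field F]
    [Fintype F] {ι : Type*} [Fintype ι] [DecidableEq ι] (S : Spl P p F ι) (D : Tor S) :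
    Nat.card (Cfsg.Agent.Lib.ModHecke.Brauer.RegCl G p) = Fintype.card F ^ Fintype.card ι := by
  have : Fact p.Prime := ⟨S.hp⟩
  let k := AlgebraicClosure (ZMod p)
  have : CharP k p := inferInstance
  have hq : (Fintype.card F : k) = 0 := (CharP.cast_eq_zero_iff k p _).2 S.card_F
  obtain ⟨n, d, hd, Θ, hΘ, N, hN⟩ := Cfsg.Agent.Lib.Zass.Mod1.exists_wedderburn k G
  obtain ⟨n₀, hn₀, hlong⟩ := exists_longest S
  rw [Cfsg.Agent.Lib.ModHecke.Brauer.card_regCl Θ hΘ hN,
    ← card_chi (p := p) S hn₀ hlong hq hΘ hN, card_chi_eq (p := p) S D hq]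

end Cfsg.Agent.Lib.ModHecke.Chars
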