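import Mathlib
import Cfsg.Agent.Lib.ChevOrder.BNCount
import Cfsg.Agent.Lib.Blocks.PFixed

/-!
The permutation module on the cosets of a subgroup `U`, the maps `k[G/U] → V` attached to the
`U`-fixed vectors of a representation, and the product on `U`-fixed functions (the Hecke algebra
of `U` in `G`, in any characteristic).  For a group with a split `(B,N)`-pair: the basis of double
coset functions, the quadratic relation modulo `p`, and a common eigenvector in `V^U`.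
-/

set_option autoImplicit false
set_option linter.unusedSectionVars false

namespace Cfsg.Agent.Lib.ModHecke.Core

open Cfsg Cfsg.Agent.Lib.BNPair.Basic Cfsg.Agent.Lib.BNPair.Parabolic
open Cfsg.Agent.Lib.ChevOrder.BNCount
open scoped Classical

section Perm

variable {G : Type*} [Group G] [Fintype G] (U : Subgroup G) {k : Type*} [Field k]
variable {V : Type*} [AddCommGroup V] [Module k V] (ρ : Representation k G V)

/-- The vectors fixed by `U`. -/
def Fix : Submodule k V where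
  carrier := {v | ∀ u ∈ U, ρ u v = v}
  add_mem' := fun {a b} ha hb u hu => by rw [map_add, ha u hu, hb u hu]
  zero_mem' := fun u _ => map_zero _
  smul_mem' := fun c a ha u hu => by rw [map_smul, ha u hu]

theorem mem_Fix {v : V} : v ∈ Fix U ρ ↔ ∀ u ∈ U, ρ u v = v := Iff.rfl

variable {U ρ}

theorem rho_out {v : V} (hv : v ∈ Fix U ρ) (g : G) :
    ρ (Quotient.out (g : G ⧸ U)) v = ρ g v := by
  obtain ⟨u, hu⟩ := QuotientGroup.mk_out_eq_mul U g
  rw [hu, map_mul, Module.End.mul_apply, hv u u.2]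

variable (U ρ)

/-- The permutation representation on functions on cosets. -/
def pm (k : Type*) [Field k] : Representation k G (G ⧸ U → k) where
  toFun g :=
    { toFun := fun m c => m (g⁻¹ • c)
      map_add' := fun _ _ => rfl
      map_smul' := fun _ _ => rfl }
  map_one' := by
    ext m c
    simp
  map_mul' := by
    intro a b
    ext m c
    simp [mul_smul]

@[simp] theorem pm_apply (g : G) (m : G ⧸ U → k) (c : G ⧸ U) : pm U k g m c = m (g⁻¹ • c) := rfl

/-- The delta function of a coset. -/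
noncomputable def sg (k : Type*) [Field k] (c : G ⧸ U) : G ⧸ U → k := Pi.single c 1

theorem sg_apply (c d : G ⧸ U) : sg U k c d = if d = c then 1 else 0 := by
  rw [sg, Pi.single_apply]

theorem pm_sg (g : G) (c : G ⧸ U) : pm U k g (sg U k c) = sg U k (g • c) := by
  funext d
  rw [pm_apply, sg_apply, sg_apply]
  congr 1
  exact propext (inv_smul_eq_iff)

theorem eq_sum_sg (m : G ⧸ U → k) : m = ∑ c, m c • sg U k c := by
  funext d
  simp only [Finset.sum_apply, Pi.smul_apply, sg_apply, smul_eq_mul, mul_ite, mul_one, mul_zero]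
  rw [Finset.sum_ite_eq]
  simp

/-- The map from the permutation module attached to a vector. -/
noncomputable def phi (v : V) : (G ⧸ U → k) →ₗ[k] V where
  toFun m := ∑ c, m c • ρ (Quotient.out c) v
  map_add' a b := by simp only [Pi.add_apply, add_smul, Finset.sum_add_distrib]
  map_smul' r a := by simp only [Pi.smul_apply, smul_eq_mul, mul_smul, RingHom.id_apply, Finset.smul_sum]

theorem phi_apply (v : V) (m : G ⧸ U → k) : phi U ρ v m = ∑ c, m c • ρ (Quotient.out c) v := rfl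

theorem phi_sg (v : V) (c : G ⧸ U) : phi U ρ v (sg U k c) = ρ (Quotient.out c) v := by
  rw [phi_apply, Finset.sum_eq_single c]
  · rw [sg_apply, if_pos rfl, one_smul]
  · intro d _ hd
    rw [sg_apply, if_neg hd, zero_smul]
  · simp

variable {U ρ}

theorem phi_smul_left (r : k) (v : V) (m : G ⧸ U → k) : phi U ρ (r • v) m = r • phi U ρ v m := by
  simp only [phi_apply, map_smul, Finset.smul_sum]
  apply Finset.sum_congr rfl
  intro c _
  rw [smul_comm]

theorem phi_add_left (v w : V) (m : G ⧸ U → k) : phi U ρ (v + w) m = phi U ρ v m + phi U ρ w m := by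
  simp only [phi_apply, map_add, smul_add, Finset.sum_add_distrib]

theorem phi_sum_left {ι : Type*} (s : Finset ι) (v : ι → V) (m : G ⧸ U → k) :
    phi U ρ (∑ i ∈ s, v i) m = ∑ i ∈ s, phi U ρ (v i) m := by
  simp only [phi_apply, map_sum, Finset.smul_sum]
  rw [Finset.sum_comm]

theorem phi_zero_left (m : G ⧸ U → k) : phi U ρ (0 : V) m = 0 := by
  simp [phi_apply]

theorem phi_sg_mk {v : V} (hv : v ∈ Fix U ρ) (g : G) :
    phi U ρ v (sg U k (g : G ⧸ U)) = ρ g v := by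
  rw [phi_sg, rho_out hv]

theorem rho_out_smul {v : V} (hv : v ∈ Fix U ρ) (g : G) (c : G ⧸ U) :
    ρ (Quotient.out (g • c)) v = ρ g (ρ (Quotient.out c) v) := by
  have h : g • c = ((g * Quotient.out c : G) : G ⧸ U) := by
    conv_lhs => rw [← QuotientGroup.out_eq' c]
    rfl
  rw [h, rho_out hv, map_mul, Module.End.mul_apply]

/-- Equivariance. -/
theorem phi_pm {v : V} (hv : v ∈ Fix U ρ) (g : G) (m : G ⧸ U → k) :
    phi U ρ v (pm U k g m) = ρ g (phi U ρ v m) := by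
  rw [phi_apply, phi_apply, map_sum, ← Equiv.sum_comp (MulAction.toPerm g : Equiv.Perm (G ⧸ U))]
  apply Finset.sum_congr rfl
  intro c _
  simp only [MulAction.toPerm_apply, pm_apply, inv_smul_smul]
  rw [map_smul, rho_out_smul hv]

/-- The image of a fixed function under the map attached to a fixed vector is fixed. -/
theorem phi_mem_Fix {v : V} (hv : v ∈ Fix U ρ) {a : G ⧸ U → k} (ha : a ∈ Fix U (pm U k)) :
    phi U ρ v a ∈ Fix U ρ := by
  intro u hu
  rw [← phi_pm hv, ha u hu]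

/-- The unit element. -/
noncomputable abbrev one (U : Subgroup G) (k : Type*) [Field k] : G ⧸ U → k :=
  sg U k ((1 : G) : G ⧸ U)

theorem one_mem_Fix : one U k ∈ Fix U (pm U k) := by
  intro u hu
  rw [pm_sg]
  congr 1
  show ((u * 1 : G) : G ⧸ U) = _
  rw [QuotientGroup.eq]
  simpa using hu

theorem phi_one {v : V} (hv : v ∈ Fix U ρ) : phi U ρ v (one U k) = v := by
  rw [phi_sg_mk hv, map_one]
  rfl

theorem phi_pm_sg {b : G ⧸ U → k} (hb : b ∈ Fix U (pm U k)) (g : G) :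
    phi U (pm U k) b (sg U k (g : G ⧸ U)) = pm U k g b := phi_sg_mk hb g

theorem phi_right_one (a : G ⧸ U → k) : phi U (pm U k) (one U k) a = a := by
  conv_rhs => rw [eq_sum_sg U a]
  rw [phi_apply]
  apply Finset.sum_congr rfl
  intro c _
  rw [pm_sg]
  congr 2
  show ((Quotient.out c * 1 : G) : G ⧸ U) = c
  rw [mul_one]
  exact QuotientGroup.out_eq' c

/-- Associativity of the product on fixed functions. -/
theorem phi_phi {v : V} (hv : v ∈ Fix U ρ) {b : G ⧸ U → k} (hb : b ∈ Fix U (pm U k))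
    (a : G ⧸ U → k) : phi U ρ v (phi U (pm U k) b a) = phi U ρ (phi U ρ v b) a := by
  rw [phi_apply U (pm U k), map_sum, phi_apply]
  apply Finset.sum_congr rfl
  intro c _
  rw [map_smul, phi_pm hv]

end Perm

/-! ### Common eigenvectors -/

section Eigen

variable {k : Type*} [Field k] [IsAlgClosed k]

theorem common_eigen {ι W : Type*} [Finite ι] [AddCommGroup W] [Module k W] [FiniteDimensional k W]
    [Nontrivial W] (f : ι → Module.End k W) (hc : ∀ i j, Commute (f i) (f j)) :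
    ∃ v : W, v ≠ 0 ∧ ∀ i, ∃ c : k, f i v = c • v := by
  have := Fintype.ofFinite ι
  have key : ∀ S : Finset ι, ∃ W' : Submodule k W, W' ≠ ⊥ ∧ (∀ j, ∀ v ∈ W', f j v ∈ W') ∧
      ∀ i ∈ S, ∃ c : k, ∀ v ∈ W', f i v = c • v := by
    intro S
    induction S using Finset.induction_on with
    | empty =>
      exact ⟨⊤, by simp, fun _ _ _ => trivial, by simp⟩
    | insert a S _ ih =>
      obtain ⟨W', hne, hinv, hev⟩ := ih
      have : Nontrivial W' := Submodule.nontrivial_iff_ne_bot.2 hne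
      let g : Module.End k W' := (f a).restrict (hinv a)
      obtain ⟨c, hc'⟩ := Module.End.exists_eigenvalue g
      obtain ⟨v, hv⟩ := hc'.exists_hasEigenvector
      refine ⟨W' ⊓ Module.End.eigenspace (f a) c, ?_, ?_, ?_⟩
      · intro h
        have h1 : (v : W) ∈ W' ⊓ Module.End.eigenspace (f a) c := by
          refine Submodule.mem_inf.2 ⟨v.2, Module.End.mem_eigenspace_iff.2 ?_⟩
          have := congrArg Subtype.val (Module.End.mem_eigenspace_iff.1 hv.1)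
          exact this
        rw [h, Submodule.mem_bot] at h1
        exact hv.2 (Subtype.ext h1)
      · intro j x hx
        refine Submodule.mem_inf.2 ⟨hinv j x hx.1, ?_⟩
        rw [Module.End.mem_eigenspace_iff]
        have h2 := Module.End.mem_eigenspace_iff.1 hx.2
        have h3 := (hc a j).eq
        have h4 := congrArg (fun T : Module.End k W => T x) h3
        simp only [Module.End.mul_apply] at h4
        rw [h4, h2, map_smul]
      · intro i hi
        rcases Finset.mem_insert.1 hi with rfl | hi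
        · exact ⟨c, fun x hx => Module.End.mem_eigenspace_iff.1 hx.2⟩
        · obtain ⟨c', hc''⟩ := hev i hi
          exact ⟨c', fun x hx => hc'' x hx.1⟩
  obtain ⟨W', hne, -, hev⟩ := key Finset.univ
  obtain ⟨v, hv, hv0⟩ := Submodule.exists_mem_ne_zero_of_ne_bot hne
  refine ⟨v, hv0, fun i => ?_⟩
  obtain ⟨c, hc'⟩ := hev i (Finset.mem_univ i)
  exact ⟨c, hc' v hv⟩

end Eigen

/-! ### Groups with a split `(B,N)`-pair -/

/-- A `(B,N)`-pair split by a normal `p`-subgroup `U` of `B`, with root subgroups for the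
simple reflections. -/
structure Spl {G : Type*} [Group G] (P : Cfsg.BNPair G) (p : ℕ) (F : Type*) [Field F] [Fintype F]
    (ι : Type*) where
  U : Subgroup G
  e : ι → G
  x : ι → F → G
  hh : ι → F → G
  he : ∀ i, e i ∈ P.S
  hes : ∀ s ∈ P.S, ∃ i, e i = s
  hp : p.Prime
  hU : IsPGroup p U
  U_le : U ≤ P.B
  U_norm : ∀ b ∈ P.B, ∀ u ∈ U, b * u * b⁻¹ ∈ U
  B_dec : ∀ b ∈ P.B, ∃ u ∈ U, ∃ t ∈ P.B ⊓ P.N, b = u * t
  T_cop : (Nat.card ↥(P.B ⊓ P.N)).Coprime p
  T_comm : ∀ t ∈ P.B ⊓ P.N, ∀ t' ∈ P.B ⊓ P.N, t * t' = t' * t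
  x_add : ∀ i a b, x i (a + b) = x i a * x i b
  x_mem : ∀ i a, x i a ∈ U
  x_dec : ∀ i, ∀ u ∈ U, ∃ a, ∃ u' ∈ U, u = x i a * u' ∧ (e i)⁻¹ * u' * e i ∈ U
  x_asc : ∀ i, ∀ n ∈ P.N, len P n < len P (e i * n) → ∀ a, n⁻¹ * x i a * n ∈ U
  rank1 : ∀ i a, a ≠ 0 → ∃ b c, e i * x i a * e i = x i b * e i * hh i (-a) * x i c
  h_mem : ∀ i a, a ≠ 0 → hh i a ∈ P.B ⊓ P.N
  card_F : p ∣ Fintype.card F

namespace Spl

variable {G : Type*} [Group G] [Fintype G] {P : Cfsg.BNPair G} {p : ℕ} {F : Type*} [Field F]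
  [Fintype F] {ι : Type*} (S : Spl P p F ι)

include S

theorem x_zero (i : ι) : S.x i 0 = 1 := by
  have h := S.x_add i 0 0
  rw [add_zero] at h
  exact (left_eq_mul.1 h)

theorem x_neg (i : ι) (a : F) : S.x i (-a) = (S.x i a)⁻¹ := by
  have h := S.x_add i (-a) a
  rw [neg_add_cancel, x_zero S] at h
  exact eq_inv_of_mul_eq_one_left h.symm

theorem e_N (i : ι) : S.e i ∈ P.N := P.subset (S.he i)

theorem e_sq_T (i : ι) : S.e i * S.e i ∈ P.B ⊓ P.N :=
  ⟨P.sq_mem _ (S.he i), P.N.mul_mem (e_N S i) (e_N S i)⟩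

theorem T_N {t : G} (ht : t ∈ P.B ⊓ P.N) : t ∈ P.N := ht.2

theorem T_B {t : G} (ht : t ∈ P.B ⊓ P.N) : t ∈ P.B := ht.1

theorem norm_T {t u : G} (ht : t ∈ P.B ⊓ P.N) (hu : u ∈ S.U) : t * u * t⁻¹ ∈ S.U :=
  S.U_norm t ht.1 u hu

theorem norm_T_inv {t u : G} (ht : t ∈ P.B ⊓ P.N) (hu : u ∈ S.U) : t⁻¹ * u * t ∈ S.U := by
  have := S.U_norm t⁻¹ (P.B.inv_mem ht.1) u hu
  simpa using this

/-- `e i` conjugates the part `U_i` back to `U`, on both sides. -/
theorem conj_e_of_inv {i : ι} {u : G} (h : (S.e i)⁻¹ * u * S.e i ∈ S.U) : S.e i * u * (S.e i)⁻¹ ∈ S.U := by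
  have h1 := norm_T S (e_sq_T S i) h
  have e1 : S.e i * S.e i * ((S.e i)⁻¹ * u * S.e i) * (S.e i * S.e i)⁻¹ = S.e i * u * (S.e i)⁻¹ := by
    group
  rwa [e1] at h1

/-- The other order of the product decomposition of `U`. -/
theorem x_dec' (i : ι) {u : G} (hu : u ∈ S.U) :
    ∃ a, ∃ u' ∈ S.U, u = u' * S.x i a ∧ S.e i * u' * (S.e i)⁻¹ ∈ S.U := by
  obtain ⟨a, u', hu', e1, h2⟩ := S.x_dec i u⁻¹ (S.U.inv_mem hu)
  refine ⟨-a, u'⁻¹, S.U.inv_mem hu', ?_, ?_⟩
  · rw [x_neg S]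
    have : u = (S.x i a * u')⁻¹ := by rw [← e1, inv_inv]
    rw [this, mul_inv_rev]
  · apply conj_e_of_inv S
    have := S.U.inv_mem h2
    have e2 : ((S.e i)⁻¹ * u' * S.e i)⁻¹ = (S.e i)⁻¹ * u'⁻¹ * S.e i := by group
    rwa [e2] at this

/-- The double coset of `U`. -/
abbrev DC (n : G) : Set G := DoubleCoset.doubleCoset n (S.U : Set G) S.U

theorem mem_DC {n g : G} : g ∈ S.DC n ↔ ∃ u ∈ S.U, ∃ u' ∈ S.U, g = u * n * u' :=
  DoubleCoset.mem_doubleCoset

theorem DC_le_C {n g : G} (h : g ∈ S.DC n) : g ∈ C P n := by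
  obtain ⟨u, hu, u', hu', rfl⟩ := (mem_DC S).1 h
  exact mem_C.2 ⟨u, S.U_le hu, u', S.U_le hu', rfl⟩

theorem self_mem_DC (n : G) : n ∈ S.DC n :=
  (mem_DC S).2 ⟨1, S.U.one_mem, 1, S.U.one_mem, by group⟩

theorem DC_mul_right {n g u : G} (h : g ∈ S.DC n) (hu : u ∈ S.U) : g * u ∈ S.DC n := by
  obtain ⟨a, ha, b, hb, rfl⟩ := (mem_DC S).1 h
  exact (mem_DC S).2 ⟨a, ha, b * u, S.U.mul_mem hb hu, by group⟩

theorem DC_mul_left {n g u : G} (h : g ∈ S.DC n) (hu : u ∈ S.U) : u * g ∈ S.DC n := by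
  obtain ⟨a, ha, b, hb, rfl⟩ := (mem_DC S).1 h
  exact (mem_DC S).2 ⟨u * a, S.U.mul_mem hu ha, b, hb, by group⟩

/-- Existence of the decomposition of `G` into `U`-double cosets of elements of `N`. -/
theorem exists_DC (g : G) : ∃ n ∈ P.N, g ∈ S.DC n := by
  obtain ⟨n, hn, hg⟩ := bruhat_exists (P := P) g
  obtain ⟨b, hb, b', hb', rfl⟩ := mem_C.1 hg
  obtain ⟨u, hu, t, ht, rfl⟩ := S.B_dec b hb
  obtain ⟨u', hu', t', ht', rfl⟩ := S.B_dec b' hb'
  refine ⟨t * n * t', P.N.mul_mem (P.N.mul_mem ht.2 hn) ht'.2, ?_⟩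
  refine (mem_DC S).2 ⟨u, hu, t'⁻¹ * u' * t', norm_T_inv S ht' hu', ?_⟩
  group

/-- An element of the torus of `p`-power order is trivial. -/
theorem T_pow_eq_one {t : G} (ht : t ∈ P.B ⊓ P.N) {a : ℕ} (h : t ^ p ^ a = 1) : t = 1 := by
  have hd1 : orderOf t ∣ p ^ a := orderOf_dvd_of_pow_eq_one h
  have hd2 : orderOf t ∣ Nat.card ↥(P.B ⊓ P.N) := by
    have := orderOf_dvd_natCard (⟨t, ht⟩ : ↥(P.B ⊓ P.N))
    rwa [Subgroup.orderOf_mk] at this
  have h3 : Nat.Coprime (orderOf t) (p ^ a) :=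
    Nat.Coprime.coprime_dvd_left hd2 (Nat.Coprime.pow_right a S.T_cop)
  have h4 : orderOf t = 1 := Nat.Coprime.eq_one_of_dvd h3 hd1
  exact orderOf_eq_one_iff.1 h4

/-- An element of `B` of `p`-power order lies in `U`. -/
theorem mem_U_of_pow {y : G} (hy : y ∈ P.B) {a : ℕ} (h : y ^ p ^ a = 1) : y ∈ S.U := by
  obtain ⟨u, hu, t, ht, rfl⟩ := S.B_dec y hy
  have key : ∀ m : ℕ, ∃ u' ∈ S.U, (u * t) ^ m = u' * t ^ m := by
    intro m
    induction m with
    | zero => exact ⟨1, S.U.one_mem, by simp⟩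
    | succ m ih =>
      obtain ⟨u', hu', e1⟩ := ih
      refine ⟨u' * (t ^ m * u * (t ^ m)⁻¹), S.U.mul_mem hu' (S.U_norm _ (P.B.pow_mem ht.1 m) _ hu), ?_⟩
      rw [pow_succ, e1, pow_succ]
      group
  obtain ⟨u', hu', e1⟩ := key (p ^ a)
  rw [h] at e1
  have h2 : t ^ p ^ a = u'⁻¹ := eq_inv_of_mul_eq_one_right e1.symm
  have h3 : t ^ p ^ a ∈ S.U := by
    rw [h2]
    exact S.U.inv_mem hu'
  have hmem := S.hU ⟨t ^ p ^ a, h3⟩
  obtain ⟨c, hc⟩ := hmem
  have h4 : (t ^ p ^ a) ^ p ^ c = 1 := by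
    have := congrArg Subtype.val hc
    simpa using this
  rw [← pow_mul, ← pow_add] at h4
  have h5 := T_pow_eq_one S ht h4
  rw [h5, mul_one]
  exact hu

/-- Uniqueness in the decomposition of `G` into `U`-double cosets of elements of `N`. -/
theorem DC_unique {n n' g : G} (hn : n ∈ P.N) (hn' : n' ∈ P.N) (h : g ∈ S.DC n) (h' : g ∈ S.DC n') :
    n = n' := by
  have hC := C_eq_of_mem_both (DC_le_C S h) (DC_le_C S h')
  have h1 := (C_eq_iff hn hn').1 hC
  have htT : n⁻¹ * n' ∈ P.B ⊓ P.N := ⟨h1, P.N.mul_mem (P.N.inv_mem hn) hn'⟩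
  obtain ⟨u₁, hu₁, v₁, hv₁, rfl⟩ := (mem_DC S).1 h
  obtain ⟨u₂, hu₂, v₂, hv₂, e1⟩ := (mem_DC S).1 h'
  set t := n⁻¹ * n' with ht
  have e2 : n' = n * t := by rw [ht]; group
  -- `n⁻¹ (u₂⁻¹ u₁) n` lies in `B`
  have e3 : n⁻¹ * (u₂⁻¹ * u₁) * n = t * (v₂ * v₁⁻¹) := by
    have : u₂⁻¹ * u₁ * n = n' * (v₂ * v₁⁻¹) := by
      have e4 : u₁ * n = u₂ * n' * v₂ * v₁⁻¹ := by
        rw [← e1]
        group
      calc u₂⁻¹ * u₁ * n = u₂⁻¹ * (u₁ * n) := by group
        _ = _ := by rw [e4]; group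
    calc n⁻¹ * (u₂⁻¹ * u₁) * n = n⁻¹ * (u₂⁻¹ * u₁ * n) := by group
      _ = _ := by rw [this, e2]; group
  have hy : n⁻¹ * (u₂⁻¹ * u₁) * n ∈ P.B := by
    rw [e3]
    exact P.B.mul_mem htT.1 (S.U_le (S.U.mul_mem hv₂ (S.U.inv_mem hv₁)))
  obtain ⟨c, hc⟩ := S.hU ⟨u₂⁻¹ * u₁, S.U.mul_mem (S.U.inv_mem hu₂) hu₁⟩
  have hpow : (n⁻¹ * (u₂⁻¹ * u₁) * n) ^ p ^ c = 1 := by
    have h5 : (u₂⁻¹ * u₁) ^ p ^ c = 1 := by
      have := congrArg Subtype.val hc
      simpa using this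
    have h6 : n⁻¹ * (u₂⁻¹ * u₁) * n = MulAut.conj n⁻¹ (u₂⁻¹ * u₁) := by
      simp
    rw [h6, ← map_pow, h5, map_one]
  have hU := mem_U_of_pow S hy hpow
  rw [e3] at hU
  have h7 : t ∈ S.U := by
    have e5 : t = t * (v₂ * v₁⁻¹) * (v₂ * v₁⁻¹)⁻¹ := by group
    rw [e5]
    exact S.U.mul_mem hU (S.U.inv_mem (S.U.mul_mem hv₂ (S.U.inv_mem hv₁)))
  obtain ⟨d, hd⟩ := S.hU ⟨t, h7⟩
  have h8 : t ^ p ^ d = 1 := by
    have := congrArg Subtype.val hd
    simpa using this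
  have h9 := T_pow_eq_one S htT h8
  rw [e2, h9, mul_one]

/-! ### The double coset functions -/

variable (k : Type*) [Field k]

/-- The function of a double coset. -/
noncomputable def T (n : G) : G ⧸ S.U → k := fun c => if Quotient.out c ∈ S.DC n then 1 else 0

variable {k}

theorem T_mk (n g : G) : T S k n (g : G ⧸ S.U) = if g ∈ S.DC n then 1 else 0 := by
  obtain ⟨u, hu⟩ := QuotientGroup.mk_out_eq_mul S.U g
  rw [T, hu]
  by_cases h : g ∈ S.DC n
  · rw [if_pos h, if_pos (DC_mul_right S h u.2)]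
  · rw [if_neg h, if_neg]
    intro h2
    apply h
    have := DC_mul_right S h2 (S.U.inv_mem u.2)
    simpa using this

theorem T_mem_Fix (n : G) : T S k n ∈ Fix S.U (pm S.U k) := by
  intro u hu
  funext c
  obtain ⟨g, rfl⟩ := QuotientGroup.mk_surjective c
  rw [pm_apply]
  show T S k n ((u⁻¹ * g : G) : G ⧸ S.U) = _
  rw [T_mk, T_mk]
  by_cases h : g ∈ S.DC n
  · rw [if_pos h, if_pos (DC_mul_left S h (S.U.inv_mem hu))]
  · rw [if_neg h, if_neg]
    intro h2
    apply h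
    have := DC_mul_left S h2 hu
    simpa using this

theorem T_N_eval {n m : G} (hn : n ∈ P.N) (hm : m ∈ P.N) :
    T S k n (m : G ⧸ S.U) = if n = m then 1 else 0 := by
  rw [T_mk]
  by_cases h : n = m
  · subst h
    rw [if_pos (self_mem_DC S n), if_pos rfl]
  · rw [if_neg h, if_neg]
    intro h2
    exact h (DC_unique S hn hm h2 (self_mem_DC S m))

/-- Fixed functions are combinations of the double coset functions. -/
theorem eq_sum_T {a : G ⧸ S.U → k} (ha : a ∈ Fix S.U (pm S.U k)) :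
    a = ∑ n : ↥P.N, a ((n : G) : G ⧸ S.U) • T S k (n : G) := by
  funext c
  obtain ⟨g, rfl⟩ := QuotientGroup.mk_surjective c
  obtain ⟨n, hn, hg⟩ := exists_DC S g
  simp only [Finset.sum_apply, Pi.smul_apply, T_mk, smul_eq_mul, mul_ite, mul_one, mul_zero]
  rw [Finset.sum_eq_single (⟨n, hn⟩ : ↥P.N)]
  · simp only [if_pos hg]
    obtain ⟨u, hu, u', hu', rfl⟩ := (mem_DC S).1 hg
    have h1 := congrFun (ha u⁻¹ (S.U.inv_mem hu)) ((u * n : G) : G ⧸ S.U)
    rw [pm_apply, inv_inv] at h1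
    have e1 : u • ((u * n : G) : G ⧸ S.U) = ((u * (u * n) : G) : G ⧸ S.U) := rfl
    have h2 := congrFun (ha u (hu)) ((n : G) : G ⧸ S.U)
    rw [pm_apply] at h2
    have e2 : ((u * n * u' : G) : G ⧸ S.U) = ((u * n : G) : G ⧸ S.U) := by
      rw [QuotientGroup.eq]
      have e3 : (u * n * u')⁻¹ * (u * n) = u'⁻¹ := by group
      rw [e3]
      exact S.U.inv_mem hu'
    have h3 := congrFun (ha u⁻¹ (S.U.inv_mem hu)) ((n : G) : G ⧸ S.U)
    rw [pm_apply, inv_inv] at h3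
    rw [e2]
    exact h3
  · intro m _ hm
    rw [if_neg]
    intro h2
    exact hm (Subtype.ext (DC_unique S m.2 hn h2 hg))
  · simp

/-- On the torus the double coset function is a delta function. -/
theorem T_torus {t : G} (ht : t ∈ P.B ⊓ P.N) : T S k t = sg S.U k (t : G ⧸ S.U) := by
  funext c
  obtain ⟨g, rfl⟩ := QuotientGroup.mk_surjective c
  rw [T_mk, sg_apply]
  by_cases h : g ∈ S.DC t
  · rw [if_pos h, if_pos]
    obtain ⟨u, hu, u', hu', rfl⟩ := (mem_DC S).1 h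
    rw [QuotientGroup.eq]
    have e : (u * t * u')⁻¹ * t = u'⁻¹ * (t⁻¹ * u⁻¹ * t) := by group
    rw [e]
    exact S.U.mul_mem (S.U.inv_mem hu') (norm_T_inv S ht (S.U.inv_mem hu))
  · rw [if_neg h, if_neg]
    intro h2
    apply h
    rw [QuotientGroup.eq] at h2
    refine (mem_DC S).2 ⟨1, S.U.one_mem, t⁻¹ * g, ?_, by group⟩
    have := S.U.inv_mem h2
    simpa using this

theorem T_one : T S k (1 : G) = one S.U k :=
  T_torus S ⟨P.B.one_mem, P.N.one_mem⟩

theorem pm_T {t : G} (ht : t ∈ P.B ⊓ P.N) (n : G) : pm S.U k t (T S k n) = T S k (t * n) := by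
  funext c
  obtain ⟨g, rfl⟩ := QuotientGroup.mk_surjective c
  rw [pm_apply]
  show T S k n ((t⁻¹ * g : G) : G ⧸ S.U) = _
  rw [T_mk, T_mk]
  have hiff : t⁻¹ * g ∈ S.DC n ↔ g ∈ S.DC (t * n) := by
    constructor
    · intro h
      obtain ⟨u, hu, u', hu', e⟩ := (mem_DC S).1 h
      refine (mem_DC S).2 ⟨t * u * t⁻¹, norm_T S ht hu, u', hu', ?_⟩
      have : g = t * (t⁻¹ * g) := by group
      rw [this, e]
      group
    · intro h
      obtain ⟨u, hu, u', hu', rfl⟩ := (mem_DC S).1 h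
      refine (mem_DC S).2 ⟨t⁻¹ * u * t, norm_T_inv S ht hu, u', hu', ?_⟩
      group
  simp only [hiff]

/-- The product with an element of the torus on the right. -/
theorem phi_sg_right {t : G} (ht : t ∈ P.B ⊓ P.N) (a : G ⧸ S.U → k) (g : G) :
    phi S.U (pm S.U k) (sg S.U k (t : G ⧸ S.U)) a (g : G ⧸ S.U) =
      a ((g * t⁻¹ : G) : G ⧸ S.U) := by
  have key : ∀ c : G ⧸ S.U, ((g : G ⧸ S.U) = Quotient.out c • ((t : G) : G ⧸ S.U)) ↔
      c = ((g * t⁻¹ : G) : G ⧸ S.U) := by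
    intro c
    have e1 : Quotient.out c • ((t : G) : G ⧸ S.U) = ((Quotient.out c * t : G) : G ⧸ S.U) := rfl
    rw [e1, QuotientGroup.eq]
    conv_rhs => rw [← QuotientGroup.out_eq' c]
    rw [QuotientGroup.eq]
    set y := Quotient.out c
    constructor
    · intro h
      have h2 := norm_T S ht (S.U.inv_mem h)
      have e2 : t * (g⁻¹ * (y * t))⁻¹ * t⁻¹ = y⁻¹ * (g * t⁻¹) := by group
      rwa [e2] at h2
    · intro h
      have h2 := S.U.inv_mem (norm_T_inv S ht h)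
      have e2 : (t⁻¹ * (y⁻¹ * (g * t⁻¹)) * t)⁻¹ = g⁻¹ * (y * t) := by group
      rwa [e2] at h2
  rw [phi_apply, Finset.sum_apply, Finset.sum_eq_single ((g * t⁻¹ : G) : G ⧸ S.U)]
  · rw [pm_sg, Pi.smul_apply, sg_apply, if_pos ((key _).2 rfl), smul_eq_mul, mul_one]
  · intro c _ hc
    rw [pm_sg, Pi.smul_apply, sg_apply, if_neg (fun h => hc ((key c).1 h)), smul_zero]
  · simp

theorem phi_T_torus {t : G} (ht : t ∈ P.B ⊓ P.N) (n : G) :
    phi S.U (pm S.U k) (T S k t) (T S k n) = T S k (n * t) := by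
  funext c
  obtain ⟨g, rfl⟩ := QuotientGroup.mk_surjective c
  rw [T_torus S ht, phi_sg_right S ht, T_mk, T_mk]
  have hiff : g * t⁻¹ ∈ S.DC n ↔ g ∈ S.DC (n * t) := by
    constructor
    · intro h
      obtain ⟨u, hu, u', hu', e⟩ := (mem_DC S).1 h
      refine (mem_DC S).2 ⟨u, hu, t⁻¹ * u' * t, norm_T_inv S ht hu', ?_⟩
      have : g = g * t⁻¹ * t := by group
      rw [this, e]
      group
    · intro h
      obtain ⟨u, hu, u', hu', rfl⟩ := (mem_DC S).1 h
      refine (mem_DC S).2 ⟨u, hu, t * u' * t⁻¹, norm_T S ht hu', ?_⟩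
      group
  simp only [hiff]

/-! ### The generators -/

theorem not_mem_B {i : ι} {a : F} (ha : a ≠ 0) : (S.e i)⁻¹ * S.x i a * S.e i ∉ P.B := by
  intro h
  obtain ⟨b, c, e1⟩ := S.rank1 i a ha
  have hx : ∀ a, S.x i a ∈ P.B := fun a => S.U_le (S.x_mem i a)
  have hT := S.h_mem i (-a) (neg_ne_zero.2 ha)
  have e2 : S.e i = (S.x i b)⁻¹ * (S.e i * S.e i * ((S.e i)⁻¹ * S.x i a * S.e i)) * (S.x i c)⁻¹ *
      (S.hh i (-a))⁻¹ := by
    have e3 : S.e i * S.e i * ((S.e i)⁻¹ * S.x i a * S.e i) = S.e i * S.x i a * S.e i := by group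
    rw [e3, e1]
    group
  have e4 : S.e i ∈ P.B := by
    rw [e2]
    refine P.B.mul_mem (P.B.mul_mem (P.B.mul_mem (P.B.inv_mem (hx _))
      (P.B.mul_mem (e_sq_T S i).1 h)) (P.B.inv_mem (hx _))) (P.B.inv_mem hT.1)
  exact s_not_mem_B (S.he i) e4

/-- The cosets in `U e t U`. -/
theorem T_e_mul {t : G} (ht : t ∈ P.B ⊓ P.N) (i : ι) :
    T S k (S.e i * t) = ∑ a : F, sg S.U k ((S.x i a * S.e i * t : G) : G ⧸ S.U) := by
  funext c
  obtain ⟨g, rfl⟩ := QuotientGroup.mk_surjective c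
  rw [T_mk, Finset.sum_apply]
  simp only [sg_apply]
  by_cases h : g ∈ S.DC (S.e i * t)
  · rw [if_pos h]
    obtain ⟨u, hu, u', hu', rfl⟩ := (mem_DC S).1 h
    obtain ⟨a, u₁, hu₁, rfl, hu₁'⟩ := S.x_dec i u hu
    rw [Finset.sum_eq_single a]
    · rw [if_pos]
      rw [QuotientGroup.eq]
      have e : (S.x i a * u₁ * (S.e i * t) * u')⁻¹ * (S.x i a * S.e i * t) =
          u'⁻¹ * (t⁻¹ * ((S.e i)⁻¹ * u₁⁻¹ * S.e i) * t) := by group
      rw [e]
      refine S.U.mul_mem (S.U.inv_mem hu') (norm_T_inv S ht ?_)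
      have := S.U.inv_mem hu₁'
      have e5 : ((S.e i)⁻¹ * u₁ * S.e i)⁻¹ = (S.e i)⁻¹ * u₁⁻¹ * S.e i := by group
      rwa [e5] at this
    · intro b _ hb
      rw [if_neg]
      intro h2
      rw [QuotientGroup.eq] at h2
      have e : (S.x i a * u₁ * (S.e i * t) * u')⁻¹ * (S.x i b * S.e i * t) =
          u'⁻¹ * (t⁻¹ * ((S.e i)⁻¹ * u₁⁻¹ * S.e i) * t) *
            (t⁻¹ * ((S.e i)⁻¹ * (S.x i a)⁻¹ * S.x i b * S.e i) * t) := by group
      rw [e] at h2
      have h3 : (S.e i)⁻¹ * u₁⁻¹ * S.e i ∈ S.U := by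
        have := S.U.inv_mem hu₁'
        have e5 : ((S.e i)⁻¹ * u₁ * S.e i)⁻¹ = (S.e i)⁻¹ * u₁⁻¹ * S.e i := by group
        rwa [e5] at this
      have h4 := S.U.mul_mem (S.U.inv_mem (S.U.mul_mem (S.U.inv_mem hu') (norm_T_inv S ht h3))) h2
      rw [inv_mul_cancel_left] at h4
      have h5 := norm_T S ht h4
      have e6 : t * (t⁻¹ * ((S.e i)⁻¹ * (S.x i a)⁻¹ * S.x i b * S.e i) * t) * t⁻¹ =
          (S.e i)⁻¹ * S.x i (-a + b) * S.e i := by
        rw [S.x_add, x_neg S]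
        group
      rw [e6] at h5
      have hne : -a + b ≠ 0 := by
        intro h0
        apply hb
        have : b = a + (-a + b) := by ring
        rw [this, h0, add_zero]
      exact not_mem_B S hne (S.U_le h5)
    · simp
  · rw [if_neg h]
    symm
    apply Finset.sum_eq_zero
    intro a _
    rw [if_neg]
    intro h2
    apply h
    rw [QuotientGroup.eq] at h2
    refine (mem_DC S).2 ⟨S.x i a, S.x_mem i a, t⁻¹ * ((S.e i)⁻¹ * ((S.x i a)⁻¹ * g)), ?_, by group⟩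
    have := S.U.inv_mem h2
    have e7 : (g⁻¹ * (S.x i a * S.e i * t))⁻¹ = t⁻¹ * ((S.e i)⁻¹ * ((S.x i a)⁻¹ * g)) := by group
    rwa [e7] at this

theorem T_e (i : ι) :
    T S k (S.e i) = ∑ a : F, sg S.U k ((S.x i a * S.e i : G) : G ⧸ S.U) := by
  have h := T_e_mul (k := k) S (t := 1) ⟨P.B.one_mem, P.N.one_mem⟩ i
  simpa using h

/-- The map attached to a fixed vector on the generator. -/
theorem phi_T_e {V : Type*} [AddCommGroup V] [Module k V] {ρ : Representation k G V} {v : V}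
    (hv : v ∈ Fix S.U ρ) (i : ι) : phi S.U ρ v (T S k (S.e i)) = ∑ a : F, ρ (S.x i a * S.e i) v := by
  rw [T_e, map_sum]
  apply Finset.sum_congr rfl
  intro a _
  rw [phi_sg_mk hv]

/-- Multiplication by the generator when the length goes up. -/
theorem phi_T_asc {i : ι} {n : G} (hn : n ∈ P.N) (hlt : len P n < len P (S.e i * n)) :
    phi S.U (pm S.U k) (T S k n) (T S k (S.e i)) = T S k (S.e i * n) := by
  rw [phi_T_e S (T_mem_Fix S n)]
  funext c
  obtain ⟨g, rfl⟩ := QuotientGroup.mk_surjective c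
  rw [Finset.sum_apply, T_mk]
  have hval : ∀ a : F, (pm S.U k (S.x i a * S.e i)) (T S k n) (g : G ⧸ S.U) =
      if (S.x i a * S.e i)⁻¹ * g ∈ S.DC n then 1 else 0 := by
    intro a
    rw [pm_apply]
    show T S k n (((S.x i a * S.e i)⁻¹ * g : G) : G ⧸ S.U) = _
    rw [T_mk]
  simp only [hval]
  by_cases h : g ∈ S.DC (S.e i * n)
  · rw [if_pos h]
    obtain ⟨u, hu, u', hu', rfl⟩ := (mem_DC S).1 h
    obtain ⟨a, u₁, hu₁, rfl, hu₁'⟩ := S.x_dec i u hu
    have hmem : (S.x i a * S.e i)⁻¹ * (S.x i a * u₁ * (S.e i * n) * u') ∈ S.DC n := by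
      refine (mem_DC S).2 ⟨(S.e i)⁻¹ * u₁ * S.e i, hu₁', u', hu', ?_⟩
      group
    rw [Finset.sum_eq_single a]
    · rw [if_pos hmem]
    · intro b _ hb
      rw [if_neg]
      intro h2
      -- uniqueness
      have hy : ∀ c : F, S.x i c * S.e i ∈ C P (S.e i) := fun c =>
        C_mul_left (self_mem_C _) (S.U_le (S.x_mem i c))
      have he := uniq_of_mul_eq (S.he i) hn hlt (hy a) (hy b) (DC_le_C S hmem) (DC_le_C S h2)
        (by group)
      have e6 : (S.x i a * S.e i)⁻¹ * (S.x i b * S.e i) = (S.e i)⁻¹ * S.x i (-a + b) * S.e i := by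
        rw [S.x_add, x_neg S]
        group
      rw [e6] at he
      have hne : -a + b ≠ 0 := by
        intro h0
        apply hb
        have : b = a + (-a + b) := by ring
        rw [this, h0, add_zero]
      exact not_mem_B S hne he
    · simp
  · rw [if_neg h]
    apply Finset.sum_eq_zero
    intro a _
    rw [if_neg]
    intro h2
    apply h
    obtain ⟨u, hu, u', hu', e⟩ := (mem_DC S).1 h2
    obtain ⟨b, u₁, hu₁, e1, hu₁'⟩ := x_dec' S i hu
    have e2 : g = S.x i a * S.e i * ((S.x i a * S.e i)⁻¹ * g) := by group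
    rw [e2, e, e1]
    refine (mem_DC S).2 ⟨S.x i a * (S.e i * u₁ * (S.e i)⁻¹),
      S.U.mul_mem (S.x_mem i a) hu₁', n⁻¹ * S.x i b * n * u', S.U.mul_mem (S.x_asc i n hn hlt b) hu', ?_⟩
    group

/-- The quadratic relation in characteristic `p`. -/
theorem phi_T_sq (hq : (Fintype.card F : k) = 0) (i : ι) :
    phi S.U (pm S.U k) (T S k (S.e i)) (T S k (S.e i)) =
      ∑ a ∈ Finset.univ.erase (0 : F), T S k (S.e i * S.hh i (-a)) := by
  rw [phi_T_e S (T_mem_Fix S _)]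
  have h1 : ∀ a : F, pm S.U k (S.x i a * S.e i) (T S k (S.e i)) =
      ∑ b : F, sg S.U k ((S.x i a * S.e i * (S.x i b * S.e i) : G) : G ⧸ S.U) := by
    intro a
    rw [T_e, map_sum]
    apply Finset.sum_congr rfl
    intro b _
    rw [pm_sg]
    rfl
  simp only [h1]
  rw [Finset.sum_comm, ← Finset.add_sum_erase _ _ (Finset.mem_univ (0 : F))]
  have h2 : ∑ a : F, sg S.U k ((S.x i a * S.e i * (S.x i 0 * S.e i) : G) : G ⧸ S.U) = 0 := by
    have h3 : ∀ a : F, ((S.x i a * S.e i * (S.x i 0 * S.e i) : G) : G ⧸ S.U) =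
        ((S.e i * S.e i : G) : G ⧸ S.U) := by
      intro a
      rw [x_zero S, QuotientGroup.eq]
      have e : (S.x i a * S.e i * (1 * S.e i))⁻¹ * (S.e i * S.e i) =
          (S.e i * S.e i)⁻¹ * (S.x i a)⁻¹ * (S.e i * S.e i) := by group
      rw [e]
      exact norm_T_inv S (e_sq_T S i) (S.U.inv_mem (S.x_mem i a))
    simp only [h3]
    rw [Finset.sum_const, Finset.card_univ, ← Nat.cast_smul_eq_nsmul k, hq, zero_smul]
  rw [h2, zero_add]
  apply Finset.sum_congr rfl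
  intro b hb
  have hb0 : b ≠ 0 := (Finset.mem_erase.1 hb).1
  obtain ⟨b', c', e1⟩ := S.rank1 i b hb0
  have ht := S.h_mem i (-b) (neg_ne_zero.2 hb0)
  rw [T_e_mul S ht]
  have h3 : ∀ a : F, ((S.x i a * S.e i * (S.x i b * S.e i) : G) : G ⧸ S.U) =
      ((S.x i (a + b') * S.e i * S.hh i (-b) : G) : G ⧸ S.U) := by
    intro a
    rw [QuotientGroup.eq]
    have e : (S.x i a * S.e i * (S.x i b * S.e i))⁻¹ * (S.x i (a + b') * S.e i * S.hh i (-b)) =
        (S.x i c')⁻¹ := by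
      have e8 : S.x i a * S.e i * (S.x i b * S.e i) = S.x i a * (S.e i * S.x i b * S.e i) := by group
      rw [e8, e1, S.x_add]
      group
    rw [e]
    exact S.U.inv_mem (S.x_mem i c')
  simp only [h3]
  exact Equiv.sum_comp (Equiv.addRight b') (fun a => sg S.U k ((S.x i a * S.e i * S.hh i (-b) : G) : G ⧸ S.U))

/-! ### A common eigenvector -/

section Eigenvector

variable {V : Type*} [AddCommGroup V] [Module k V] {ρ : Representation k G V}

/-- The product on the `U`-fixed vectors with the generators and the torus. -/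
theorem phi_T_mul_T {v : V} (hv : v ∈ Fix S.U ρ) {i : ι} {n : G} (hn : n ∈ P.N)
    (hlt : len P n < len P (S.e i * n)) :
    phi S.U ρ v (T S k (S.e i * n)) = phi S.U ρ (phi S.U ρ v (T S k n)) (T S k (S.e i)) := by
  rw [← phi_T_asc S hn hlt, phi_phi hv (T_mem_Fix S n)]

theorem phi_T_torus_left {v : V} (hv : v ∈ Fix S.U ρ) {t : G} (ht : t ∈ P.B ⊓ P.N) :
    phi S.U ρ v (T S k t) = ρ t v := by
  rw [T_torus S ht, phi_sg_mk hv]

theorem phi_T_mul_torus {v : V} (hv : v ∈ Fix S.U ρ) {t : G} (ht : t ∈ P.B ⊓ P.N) (n : G) :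
    phi S.U ρ v (T S k (n * t)) = phi S.U ρ (ρ t v) (T S k n) := by
  rw [← phi_T_torus S ht, phi_phi hv (T_mem_Fix S t), phi_T_torus_left S hv ht]

theorem phi_T_torus_mul {v : V} (hv : v ∈ Fix S.U ρ) {t : G} (ht : t ∈ P.B ⊓ P.N) (n : G) :
    phi S.U ρ v (T S k (t * n)) = ρ t (phi S.U ρ v (T S k n)) := by
  rw [← pm_T S ht, phi_pm hv]

theorem conj_T {n t : G} (hn : n ∈ P.N) (ht : t ∈ P.B ⊓ P.N) : n⁻¹ * t * n ∈ P.B ⊓ P.N :=
  ⟨conj_inv_B hn ht.1 ht.2, P.N.mul_mem (P.N.mul_mem (P.N.inv_mem hn) ht.2) hn⟩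

theorem conj_T' {n t : G} (hn : n ∈ P.N) (ht : t ∈ P.B ⊓ P.N) : n * t * n⁻¹ ∈ P.B ⊓ P.N :=
  ⟨conj_B hn ht.1 ht.2, P.N.mul_mem (P.N.mul_mem hn ht.2) (P.N.inv_mem hn)⟩

/-- The fixed vectors form an invariant subspace under the torus. -/
theorem rho_T_mem_Fix {v : V} (hv : v ∈ Fix S.U ρ) {t : G} (ht : t ∈ P.B ⊓ P.N) :
    ρ t v ∈ Fix S.U ρ := by
  intro u hu
  have e : u * t = t * (t⁻¹ * u * t) := by group
  rw [← Module.End.mul_apply, ← map_mul, e, map_mul, Module.End.mul_apply, hv _ (norm_T_inv S ht hu)]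

variable [IsAlgClosed k] [FiniteDimensional k V]

/-- A common eigenvector of the torus in the fixed vectors. -/
theorem exists_torus_eigen (hV : Fix S.U ρ ≠ ⊥) :
    ∃ v ∈ Fix S.U ρ, v ≠ 0 ∧ ∀ t ∈ P.B ⊓ P.N, ∃ c : k, ρ t v = c • v := by
  have : Nontrivial ↥(Fix S.U ρ) := Submodule.nontrivial_iff_ne_bot.2 hV
  let f : ↥(P.B ⊓ P.N) → Module.End k ↥(Fix S.U ρ) := fun t =>
    (ρ (t : G)).restrict (fun v hv => rho_T_mem_Fix S hv t.2)
  have hf : ∀ t s, Commute (f t) (f s) := by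
    intro t s
    ext v
    show ρ (t : G) (ρ (s : G) (v : V)) = ρ (s : G) (ρ (t : G) (v : V))
    rw [← Module.End.mul_apply, ← map_mul, S.T_comm _ t.2 _ s.2, map_mul, Module.End.mul_apply]
  obtain ⟨v, hv, h⟩ := common_eigen f hf
  refine ⟨v, v.2, fun h0 => hv (Subtype.ext h0), fun t ht => ?_⟩
  obtain ⟨c, hc⟩ := h ⟨t, ht⟩
  exact ⟨c, congrArg Subtype.val hc⟩

/-- In a representation with nonzero fixed vectors there is a common eigenvector of the whole
Hecke algebra. -/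
theorem exists_eigen (hq : (Fintype.card F : k) = 0) (hV : Fix S.U ρ ≠ ⊥) :
    ∃ y ∈ Fix S.U ρ, y ≠ 0 ∧ ∀ n ∈ P.N, ∃ c : k, phi S.U ρ y (T S k n) = c • y := by
  obtain ⟨v, hv, hv0, hc⟩ := exists_torus_eigen S hV
  choose! μ hμ using hc
  -- a maximal element
  let D : Finset G := Finset.univ.filter fun n => n ∈ P.N ∧ phi S.U ρ v (T S k n) ≠ 0
  have hD : D.Nonempty := by
    refine ⟨1, Finset.mem_filter.2 ⟨Finset.mem_univ _, P.N.one_mem, ?_⟩⟩
    rw [T_one, phi_one hv]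
    exact hv0
  obtain ⟨n, hnD, hmax⟩ := D.exists_max_image (len P) hD
  obtain ⟨-, hn, hne⟩ := Finset.mem_filter.1 hnD
  set y := phi S.U ρ v (T S k n) with hy
  have hyF : y ∈ Fix S.U ρ := phi_mem_Fix hv (T_mem_Fix S n)
  -- the torus
  have hA : ∀ t ∈ P.B ⊓ P.N, ∃ c : k, ρ t y = c • y := by
    intro t ht
    refine ⟨μ (n⁻¹ * t * n), ?_⟩
    have e : t * n = n * (n⁻¹ * t * n) := by group
    rw [hy, ← phi_T_torus_mul S hv ht, e, phi_T_mul_torus S hv (conj_T S hn ht),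
      hμ _ (conj_T S hn ht), phi_smul_left]
  choose! c' hc' using hA
  -- the generators
  have hB : ∀ i, ∃ c : k, phi S.U ρ y (T S k (S.e i)) = c • y := by
    intro i
    rcases len_mul_eq_or (S.he i) hn with h1 | h1
    · refine ⟨0, ?_⟩
      rw [zero_smul, hy, ← phi_T_mul_T S hv hn (by omega)]
      by_contra h2
      have h3 : S.e i * n ∈ D :=
        Finset.mem_filter.2 ⟨Finset.mem_univ _, P.N.mul_mem (e_N S i) hn, h2⟩
      have := hmax _ h3
      omega
    · set n' := (S.e i)⁻¹ * n with hn'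
      have hn'N : n' ∈ P.N := P.N.mul_mem (P.N.inv_mem (e_N S i)) hn
      have e1 : S.e i * n' = n := by rw [hn']; group
      have h2 : len P n' < len P (S.e i * n') := by
        rw [e1, hn', len_inv_mul (S.he i) hn]
        omega
      set z := phi S.U ρ v (T S k n') with hz
      have hzF : z ∈ Fix S.U ρ := phi_mem_Fix hv (T_mem_Fix S n')
      have e2 : y = phi S.U ρ z (T S k (S.e i)) := by
        rw [hy, hz, ← phi_T_mul_T S hv hn'N h2, e1]
      refine ⟨∑ a ∈ Finset.univ.erase (0 : F),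
        c' (S.e i * S.hh i (-a) * (S.e i)⁻¹), ?_⟩
      conv_lhs => rw [e2]
      rw [← phi_phi hzF (T_mem_Fix S _), phi_T_sq S hq, map_sum, Finset.sum_smul]
      apply Finset.sum_congr rfl
      intro a ha
      have ha0 : a ≠ 0 := (Finset.mem_erase.1 ha).1
      have ht := S.h_mem i (-a) (neg_ne_zero.2 ha0)
      have ht' := conj_T' S (e_N S i) ht
      have e3 : S.e i * S.hh i (-a) = (S.e i * S.hh i (-a) * (S.e i)⁻¹) * S.e i := by group
      have e4 : phi S.U ρ z (T S k (S.e i * S.hh i (-a))) = ρ (S.e i * S.hh i (-a) * (S.e i)⁻¹) y := by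
        conv_lhs => rw [e3]
        rw [phi_T_torus_mul S hzF ht', ← e2]
      rw [e4, hc' _ ht']
  choose ε hε using hB
  -- all of `N`
  have hC : ∀ m : ℕ, ∀ n ∈ P.N, len P n = m → ∃ c : k, phi S.U ρ y (T S k n) = c • y := by
    intro m
    induction m with
    | zero =>
      intro n hn h0
      have hb := (len_eq_zero_iff hn).1 h0
      refine ⟨c' n, ?_⟩
      rw [phi_T_torus_left S hyF ⟨hb, hn⟩, hc' n ⟨hb, hn⟩]
    | succ m ih =>
      intro n hn hm
      obtain ⟨s, hs, n', hn', rfl, hl⟩ := decomp_left hn hm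
      obtain ⟨i, rfl⟩ := S.hes s hs
      obtain ⟨c, hc⟩ := ih n' hn' hl
      refine ⟨c * ε i, ?_⟩
      rw [phi_T_mul_T S hyF hn' (by omega), hc, phi_smul_left, hε, smul_smul]
  exact ⟨y, hyF, hne, fun n hn => hC _ n hn rfl⟩

end Eigenvector

end Spl

end Cfsg.Agent.Lib.ModHecke.Core
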