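import Cfsg.Agent.Lib.ModHecke.Core
import Cfsg.Agent.Lib.ChevOrder.Cox

/-!
The Hecke algebra `End_G(k[G/U])` of a split `(B,N)`-pair in characteristic `p` is Frobenius, and
its characters parametrise the simple `kG`-modules.
-/

set_option autoImplicit false
set_option linter.unusedSectionVars false

namespace Cfsg.Agent.Lib.ModHecke.Frob

open Cfsg Cfsg.Agent.Lib.BNPair.Basic Cfsg.Agent.Lib.BNPair.Parabolic
open Cfsg.Agent.Lib.BNPair.CoxeterExchange
open Cfsg.Agent.Lib.ChevOrder.BNCount Cfsg.Agent.Lib.ChevOrder.Cox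
open Cfsg.Agent.Lib.ModHecke.Core Cfsg.Agent.Lib.ModHecke.Core.Spl
open scoped Classical

section Longest

variable {W ι : Type*} [Group W] {f : ι → W} {L : W → ℕ} (hs : Setup f L)
include hs

theorem L_mul_le (a b : W) : L (a * b) ≤ L a + L b := by
  obtain ⟨l, rfl, hl⟩ := hs.ex a
  obtain ⟨l', rfl, hl'⟩ := hs.ex b
  rw [← pr_append]
  have := hs.le (l ++ l')
  simpa [hl, hl'] using this

theorem L_inv (w : W) : L w⁻¹ = L w := by
  have key : ∀ w, L w⁻¹ ≤ L w := by
    intro w
    obtain ⟨l, rfl, hl⟩ := hs.ex w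
    rw [← pr_reverse hs]
    have := hs.le l.reverse
    rw [List.length_reverse] at this
    omega
  refine le_antisymm (key w) ?_
  simpa using key w⁻¹

/-- Every reduced word is a prefix of a reduced word of an element with all left descents. -/
theorem is_prefix {w : W} (hw : ∀ i, L (f i * w) < L w) (l : List ι) (hl : L (pr f l) = l.length) :
    L ((pr f l)⁻¹ * w) + l.length = L w := by
  induction l with
  | nil => simp
  | cons i l ih =>
    rw [pr_cons] at hl
    simp only [List.length_cons] at hl ⊢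
    have h0 := hs.mul_le i (pr f l)
    have h1 := hs.le l
    have h2 : L (pr f l) = l.length := by omega
    have h3 := ih h2
    set a := (pr f l)⁻¹ * w with ha
    obtain ⟨la, hla, hla'⟩ := hs.ex a
    have hprod : pr f (l ++ la) = w := by
      rw [pr_append, hla, ha]
      group
    have hlen : (l ++ la).length = L w := by
      rw [List.length_append, hla']
      omega
    obtain ⟨l₁, j, l₂, e1, e2⟩ := hs.exch i (l ++ la) (by rw [hprod, hlen])
      (by rw [hprod, hlen]; exact hw i)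
    have hfi : (f i)⁻¹ = f i := inv_f hs i
    have key : ∀ (a' : List ι), l₁ = l ++ a' → la = a' ++ j :: l₂ →
        L ((f i * pr f l)⁻¹ * w) + (l.length + 1) = L w := by
      intro a' h4 h5
      have e3 : (f i * pr f l)⁻¹ * w = pr f (a' ++ l₂) := by
        have e4 : w = pr f l₁ * f j * pr f l₂ := by
          rw [← hprod, e1, pr_append, pr_cons]
          group
        have e6 : f i * w = pr f l₁ * (f j * f j) * pr f l₂ := by
          rw [e4]
          calc f i * (pr f l₁ * f j * pr f l₂) = (f i * pr f l₁) * f j * pr f l₂ := by group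
            _ = _ := by rw [e2]; group
        have e7 : (f i * pr f l)⁻¹ * w = (pr f l)⁻¹ * (f i * w) := by
          rw [mul_inv_rev, hfi]
          group
        rw [e7, e6, hs.sq j, h4, pr_append, pr_append]
        group
      have h6 := hs.le (a' ++ l₂)
      rw [← e3] at h6
      have h7 := L_mul_le hs (f i * pr f l) ((f i * pr f l)⁻¹ * w)
      rw [mul_inv_cancel_left, hl] at h7
      have h8 : (a' ++ l₂).length + 1 = la.length := by
        rw [h5]
        simp
        omega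
      omega
    rcases List.append_eq_append_iff.1 e1 with ⟨a', h4, h5⟩ | ⟨c', h4, h5⟩
    · exact key a' h4 h5
    · cases c' with
      | nil =>
        simp only [List.append_nil, List.nil_append] at h4 h5
        exact key [] (by simpa using h4.symm) (by simpa using h5.symm)
      | cons j' c'' =>
        exfalso
        simp only [List.cons_append, List.cons.injEq] at h5
        obtain ⟨h6', h7'⟩ := h5
        subst h6'
        have e3 : f i * pr f l = pr f (l₁ ++ c'') := by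
          rw [h4, pr_append, pr_cons, pr_append, ← mul_assoc, e2]
          have e5 : f j * f j = 1 := hs.sq j
          calc pr f l₁ * f j * (f j * pr f c'') = pr f l₁ * (f j * f j) * pr f c'' := by group
            _ = _ := by rw [e5, mul_one]
        have h6 := hs.le (l₁ ++ c'')
        rw [← e3, hl, h4] at h6
        simp at h6

end Longest

variable {G : Type*} [Group G] [Fintype G] {P : Cfsg.BNPair G} {p : ℕ} {F : Type*} [Field F]
  [Fintype F] {ι : Type*} (S : Spl P p F ι)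

include S

theorem setupS : Setup (ff S.e S.he) (LL P) := setup S.e S.he S.hes

theorem ff_mk_mul (i : ι) (x : ↥P.N) : ff S.e S.he i * (QuotientGroup.mk x : WW P) =
    QuotientGroup.mk (⟨S.e i * (x : G), P.N.mul_mem (e_N S i) x.2⟩ : ↥P.N) := rfl

/-- `ℓ(ab) ≤ ℓ(a) + ℓ(b)`. -/
theorem len_mul_add {a b : G} (ha : a ∈ P.N) (hb : b ∈ P.N) : len P (a * b) ≤ len P a + len P b := by
  have h := L_mul_le (setupS S) (QuotientGroup.mk ⟨a, ha⟩) (QuotientGroup.mk ⟨b, hb⟩)
  have e : (QuotientGroup.mk ⟨a, ha⟩ : WW P) * QuotientGroup.mk ⟨b, hb⟩ =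
      QuotientGroup.mk (⟨a * b, P.N.mul_mem ha hb⟩ : ↥P.N) := rfl
  rw [e, LL_mk, LL_mk, LL_mk] at h
  exact h

/-- A longest element of `N`. -/
theorem exists_longest [Finite ↥P.N] : ∃ n₀ ∈ P.N, ∀ x ∈ P.N, len P (x⁻¹ * n₀) + len P x = len P n₀ ∧
    len P (n₀ * x⁻¹) + len P x = len P n₀ := by
  have hs := setupS S
  have := Fintype.ofFinite ↥P.N
  obtain ⟨n₀, -, hmax⟩ := Finset.univ.exists_max_image (fun n : ↥P.N => len P (n : G)) ⟨1, Finset.mem_univ _⟩
  refine ⟨n₀, n₀.2, fun x hx => ?_⟩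
  set w0 : WW P := QuotientGroup.mk n₀ with hw0
  have hmaxW : ∀ y : WW P, LL P y ≤ LL P w0 := by
    intro y
    obtain ⟨z, rfl⟩ := QuotientGroup.mk_surjective y
    rw [hw0, LL_mk, LL_mk]
    exact hmax z (Finset.mem_univ _)
  have hd : ∀ w : WW P, LL P w = LL P w0 → ∀ i, LL P (ff S.e S.he i * w) < LL P w := by
    intro w hw i
    have h1 := hmaxW (ff S.e S.he i * w)
    have h2 := hs.ne i w
    omega
  obtain ⟨l, hl, hl'⟩ := hs.ex (QuotientGroup.mk ⟨x, hx⟩)
  have h1 := is_prefix hs (hd w0 rfl) l (by rw [hl, hl'])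
  rw [hl, hl'] at h1
  have e1 : (QuotientGroup.mk ⟨x, hx⟩ : WW P)⁻¹ * w0 =
      QuotientGroup.mk (⟨x⁻¹ * n₀, P.N.mul_mem (P.N.inv_mem hx) n₀.2⟩ : ↥P.N) := rfl
  rw [e1, hw0, LL_mk, LL_mk, LL_mk] at h1
  obtain ⟨l', hl2, hl2'⟩ := hs.ex (QuotientGroup.mk ⟨x⁻¹, P.N.inv_mem hx⟩)
  have h2 := is_prefix hs (hd w0⁻¹ (L_inv hs _)) l' (by rw [hl2, hl2'])
  rw [hl2, hl2', L_inv hs] at h2
  have e2 : (QuotientGroup.mk ⟨x⁻¹, P.N.inv_mem hx⟩ : WW P)⁻¹ * w0⁻¹ =
      (QuotientGroup.mk (⟨n₀ * x⁻¹, P.N.mul_mem n₀.2 (P.N.inv_mem hx)⟩ : ↥P.N) : WW P)⁻¹ := by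
    rw [hw0, ← mul_inv_rev]
    rfl
  rw [e2, L_inv hs, hw0, LL_mk, LL_mk, LL_mk] at h2
  have h3 : len P x⁻¹ = len P x := by
    have e3 : (QuotientGroup.mk ⟨x⁻¹, P.N.inv_mem hx⟩ : WW P) = (QuotientGroup.mk ⟨x, hx⟩ : WW P)⁻¹ := rfl
    have h4 := L_inv hs (QuotientGroup.mk ⟨x, hx⟩ : WW P)
    rw [← e3, LL_mk, LL_mk] at h4
    exact h4
  refine ⟨h1, ?_⟩
  rw [← h3]
  exact h2

variable {k : Type*} [Field k]

/-- Multiplication by the torus preserves the length. -/
theorem len_torus_mul {t n : G} (ht : t ∈ P.B ⊓ P.N) (hn : n ∈ P.N) : len P (t * n) = len P n := by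
  apply (len_congr _).symm
  have e : n⁻¹ * (t * n) = n⁻¹ * t * n := by group
  rw [e]
  exact (conj_T S hn ht).1

/-- The torus element attached to a parameter. -/
noncomputable def tt (i : ι) (a : F) : G := S.e i * S.hh i (-a) * (S.e i)⁻¹

theorem tt_mem (i : ι) {a : F} (ha : a ≠ 0) : tt S i a ∈ P.B ⊓ P.N :=
  conj_T' S (e_N S i) (S.h_mem i (-a) (neg_ne_zero.2 ha))

/-- Multiplication by the generator when the length goes down. -/
theorem phi_T_desc (hq : (Fintype.card F : k) = 0) {i : ι} {x : G} (hx : x ∈ P.N)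
    (h : len P (S.e i * x) < len P x) :
    phi S.U (pm S.U k) (T S k x) (T S k (S.e i)) =
      ∑ a ∈ Finset.univ.erase (0 : F), T S k (tt S i a * x) := by
  have hx' : (S.e i)⁻¹ * x ∈ P.N := P.N.mul_mem (P.N.inv_mem (e_N S i)) hx
  have e1 : S.e i * ((S.e i)⁻¹ * x) = x := by group
  have h2 : len P ((S.e i)⁻¹ * x) < len P (S.e i * ((S.e i)⁻¹ * x)) := by
    rw [e1, len_inv_mul (S.he i) hx]
    exact h
  have h3 := phi_T_asc (k := k) S hx' h2
  rw [e1] at h3
  rw [← h3, ← phi_phi (T_mem_Fix S _) (T_mem_Fix S _), phi_T_sq S hq, map_sum]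
  apply Finset.sum_congr rfl
  intro a ha
  have ha0 : a ≠ 0 := (Finset.mem_erase.1 ha).1
  have e3 : S.e i * S.hh i (-a) = tt S i a * S.e i := by
    rw [tt]
    group
  rw [e3, phi_T_torus_mul S (T_mem_Fix S _) (tt_mem S i ha0), h3, pm_T S (tt_mem S i ha0)]

/-- The triangular form of the product of two double coset functions. -/
theorem tri (hq : (Fintype.card F : k) = 0) : ∀ (m : ℕ) (n : G), n ∈ P.N → len P n = m →
    ∀ b ∈ P.N, ∀ y ∈ P.N,
      (len P n + len P b < len P y → phi S.U (pm S.U k) (T S k b) (T S k n) (y : G ⧸ S.U) = 0) ∧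
      (len P y = len P n + len P b →
        phi S.U (pm S.U k) (T S k b) (T S k n) (y : G ⧸ S.U) = if y = n * b then 1 else 0) := by
  intro m
  induction m with
  | zero =>
    intro n hn h0 b hb y hy
    have hB := (len_eq_zero_iff hn).1 h0
    have ht : n ∈ P.B ⊓ P.N := ⟨hB, hn⟩
    rw [phi_T_torus_left S (T_mem_Fix S b) ht, pm_T S ht, T_N_eval S (P.N.mul_mem hn hb) hy]
    have h1 := len_torus_mul S ht hb
    constructor
    · intro h2
      rw [if_neg]
      intro h3
      rw [h3] at h1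
      omega
    · intro _
      simp only [eq_comm]
  | succ m ih =>
    intro n hn hm b hb y hy
    obtain ⟨s, hs, n', hn', rfl, hl⟩ := decomp_left hn hm
    obtain ⟨i, rfl⟩ := S.hes s hs
    have hlt : len P n' < len P (S.e i * n') := by omega
    set c := phi S.U (pm S.U k) (T S k b) (T S k n') with hc
    have hcF : c ∈ Fix S.U (pm S.U k) := phi_mem_Fix (T_mem_Fix S b) (T_mem_Fix S n')
    have e0 : phi S.U (pm S.U k) (T S k b) (T S k (S.e i * n')) =
        phi S.U (pm S.U k) c (T S k (S.e i)) := phi_T_mul_T S (T_mem_Fix S b) hn' hlt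
    rw [e0]
    -- expansion of `c`
    have hexp : phi S.U (pm S.U k) c (T S k (S.e i)) (y : G ⧸ S.U) =
        ∑ x : ↥P.N, c ((x : G) : G ⧸ S.U) *
          phi S.U (pm S.U k) (T S k (x : G)) (T S k (S.e i)) (y : G ⧸ S.U) := by
      conv_lhs => rw [eq_sum_T S hcF]
      rw [phi_sum_left, Finset.sum_apply]
      apply Finset.sum_congr rfl
      intro x _
      rw [phi_smul_left, Pi.smul_apply, smul_eq_mul]
    have hIH := ih n' hn' hl b hb
    -- terms of length too small
    have hlow : ∀ x : ↥P.N, (len P (S.e i * (x : G)) < len P (x : G) → len P (x : G) < len P y) →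
        S.e i * (x : G) ≠ y →
        c ((x : G) : G ⧸ S.U) * phi S.U (pm S.U k) (T S k (x : G)) (T S k (S.e i)) (y : G ⧸ S.U) = 0 := by
      intro x hx1 hx2
      rcases len_mul_eq_or (S.he i) x.2 with h1 | h1
      · rw [phi_T_asc S x.2 (by omega), T_N_eval S (P.N.mul_mem (e_N S i) x.2) hy, if_neg hx2,
          mul_zero]
      · rw [phi_T_desc S hq x.2 (by omega), Finset.sum_apply, Finset.sum_eq_zero, mul_zero]
        intro a ha
        have ha0 : a ≠ 0 := (Finset.mem_erase.1 ha).1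
        rw [T_N_eval S (P.N.mul_mem (tt_mem S i ha0).2 x.2) hy, if_neg]
        intro h3
        have h4 := len_torus_mul S (tt_mem S i ha0) x.2
        rw [h3] at h4
        have := hx1 (by omega)
        omega
    have hhi : ∀ x : ↥P.N, c ((x : G) : G ⧸ S.U) ≠ 0 → len P (x : G) ≤ len P n' + len P b := by
      intro x hx
      by_contra h
      have hIHx := ih n' hn' hl b hb x x.2
      exact hx (hIHx.1 (by omega))
    constructor
    · intro hgt
      rw [hexp]
      apply Finset.sum_eq_zero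
      intro x _
      by_cases hx : c ((x : G) : G ⧸ S.U) = 0
      · rw [hx, zero_mul]
      · have h2 := hhi x hx
        apply hlow x (fun _ => by omega)
        intro h3
        have h4 := len_mul_le (S.he i) x.2
        rw [h3] at h4
        omega
    · intro heq
      rw [hexp]
      have hy0 : (S.e i)⁻¹ * y ∈ P.N := P.N.mul_mem (P.N.inv_mem (e_N S i)) hy
      have e1 : S.e i * ((S.e i)⁻¹ * y) = y := by group
      rw [Finset.sum_eq_single (⟨(S.e i)⁻¹ * y, hy0⟩ : ↥P.N)]
      · show c (((S.e i)⁻¹ * y : G) : G ⧸ S.U) *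
          phi S.U (pm S.U k) (T S k ((S.e i)⁻¹ * y)) (T S k (S.e i)) (y : G ⧸ S.U) = _
        have hIHy := hIH ((S.e i)⁻¹ * y) hy0
        have hlen0 := len_inv_mul (S.he i) hy
        rcases len_mul_eq_or (S.he i) hy with h1 | h1
        · -- the element `e⁻¹ y` is longer
          have h2 : c (((S.e i)⁻¹ * y : G) : G ⧸ S.U) = 0 := hIHy.1 (by omega)
          rw [h2, zero_mul, if_neg]
          intro h3
          rw [h3] at h1
          have h4 := len_mul_add S hn' hb
          have h5 : S.e i * (S.e i * n' * b) = S.e i * S.e i * (n' * b) := by group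
          rw [h5] at h1
          have h6 : len P (S.e i * S.e i * (n' * b)) = len P (n' * b) :=
            len_torus_mul S (e_sq_T S i) (P.N.mul_mem hn' hb)
          rw [h6] at h1
          have h7 : len P (S.e i * n' * b) = len P (S.e i * (n' * b)) := by rw [mul_assoc]
          rw [h3, h7] at heq
          have h8 := len_mul_le (S.he i) (P.N.mul_mem hn' hb)
          omega
        · have h2 : len P ((S.e i)⁻¹ * y) = len P n' + len P b := by omega
          have h9 : c (((S.e i)⁻¹ * y : G) : G ⧸ S.U) = if (S.e i)⁻¹ * y = n' * b then 1 else 0 :=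
            hIHy.2 h2
          rw [h9]
          have hasc : len P ((S.e i)⁻¹ * y) < len P (S.e i * ((S.e i)⁻¹ * y)) := by
            rw [e1]
            omega
          rw [phi_T_asc S hy0 hasc, e1, T_N_eval S hy hy, if_pos rfl, mul_one]
          congr 1
          rw [mul_assoc, eq_comm, ← inv_mul_eq_iff_eq_mul, eq_comm]
      · intro x _ hx
        by_cases hx0 : c ((x : G) : G ⧸ S.U) = 0
        · rw [hx0, zero_mul]
        · have h2 := hhi x hx0
          apply hlow x (fun _ => by omega)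
          intro h3
          apply hx
          apply Subtype.ext
          show (x : G) = (S.e i)⁻¹ * y
          rw [← h3]
          group
      · simp

/-! ### Nondegeneracy -/

section Nondeg

variable {n₀ : G} (hn₀ : n₀ ∈ P.N)
  (hlong : ∀ x ∈ P.N, len P (x⁻¹ * n₀) + len P x = len P n₀ ∧ len P (n₀ * x⁻¹) + len P x = len P n₀)
include hn₀ hlong

omit hn₀ hlong in
theorem exists_top {a : G ⧸ S.U → k} (ha : a ∈ Fix S.U (pm S.U k)) (h0 : a ≠ 0) :
    ∃ m ∈ P.N, a ((m : G) : G ⧸ S.U) ≠ 0 ∧ ∀ x ∈ P.N, a ((x : G) : G ⧸ S.U) ≠ 0 → len P x ≤ len P m := by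
  let D : Finset G := Finset.univ.filter fun x => x ∈ P.N ∧ a ((x : G) : G ⧸ S.U) ≠ 0
  have hD : D.Nonempty := by
    by_contra hne
    rw [Finset.not_nonempty_iff_eq_empty] at hne
    apply h0
    rw [eq_sum_T S ha]
    apply Finset.sum_eq_zero
    intro x _
    by_cases hx : a (((x : ↥P.N) : G) : G ⧸ S.U) = 0
    · rw [hx, zero_smul]
    · exfalso
      have : (x : G) ∈ D := Finset.mem_filter.2 ⟨Finset.mem_univ _, x.2, hx⟩
      rw [hne] at this
      simp at this
  obtain ⟨m, hm, hmax⟩ := D.exists_max_image (len P) hD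
  obtain ⟨-, hm1, hm2⟩ := Finset.mem_filter.1 hm
  exact ⟨m, hm1, hm2, fun x hx hx' => hmax x (Finset.mem_filter.2 ⟨Finset.mem_univ _, hx, hx'⟩)⟩

/-- The form is nondegenerate on the left. -/
theorem nondeg_left (hq : (Fintype.card F : k) = 0) {a : G ⧸ S.U → k}
    (ha : a ∈ Fix S.U (pm S.U k)) (h0 : a ≠ 0) :
    ∃ h ∈ Fix S.U (pm S.U k), phi S.U (pm S.U k) a h (n₀ : G ⧸ S.U) ≠ 0 := by
  obtain ⟨m, hm, ham, hmax⟩ := exists_top S ha h0
  have hnm : n₀ * m⁻¹ ∈ P.N := P.N.mul_mem hn₀ (P.N.inv_mem hm)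
  refine ⟨T S k (n₀ * m⁻¹), T_mem_Fix S _, ?_⟩
  have hexp : phi S.U (pm S.U k) a (T S k (n₀ * m⁻¹)) (n₀ : G ⧸ S.U) =
      ∑ x : ↥P.N, a ((x : G) : G ⧸ S.U) *
        phi S.U (pm S.U k) (T S k (x : G)) (T S k (n₀ * m⁻¹)) (n₀ : G ⧸ S.U) := by
    conv_lhs => rw [eq_sum_T S ha]
    rw [phi_sum_left, Finset.sum_apply]
    apply Finset.sum_congr rfl
    intro x _
    rw [phi_smul_left, Pi.smul_apply, smul_eq_mul]
  rw [hexp, Finset.sum_eq_single (⟨m, hm⟩ : ↥P.N)]
  · have h1 := (tri (k := k) S hq _ (n₀ * m⁻¹) hnm rfl m hm n₀ hn₀).2 (hlong m hm).2.symm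
    have e : n₀ = n₀ * m⁻¹ * m := by group
    rw [if_pos e] at h1
    show a ((m : G) : G ⧸ S.U) * phi S.U (pm S.U k) (T S k m) (T S k (n₀ * m⁻¹)) (n₀ : G ⧸ S.U) ≠ 0
    rw [h1, mul_one]
    exact ham
  · intro x _ hx
    by_cases hx0 : a ((x : G) : G ⧸ S.U) = 0
    · rw [hx0, zero_mul]
    · have h2 := hmax x x.2 hx0
      have h3 := hlong m hm
      have h4 := tri (k := k) S hq _ (n₀ * m⁻¹) hnm rfl x x.2 n₀ hn₀
      rcases Nat.lt_or_ge (len P (n₀ * m⁻¹) + len P (x : G)) (len P n₀) with h5 | h5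
      · rw [h4.1 h5, mul_zero]
      · rw [h4.2 (by omega), if_neg, mul_zero]
        intro h6
        apply hx
        apply Subtype.ext
        show (x : G) = m
        have e : n₀ * m⁻¹ * (x : G) = n₀ * (m⁻¹ * x) := by group
        rw [e] at h6
        have h7 : m⁻¹ * (x : G) = 1 := by simpa using h6.symm
        have e2 : (x : G) = m * (m⁻¹ * x) := by group
        rw [e2, h7, mul_one]
  · simp

/-- The form is nondegenerate on the right. -/
theorem nondeg_right (hq : (Fintype.card F : k) = 0) {a : G ⧸ S.U → k}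
    (ha : a ∈ Fix S.U (pm S.U k)) (h0 : a ≠ 0) :
    ∃ z ∈ Fix S.U (pm S.U k), phi S.U (pm S.U k) z a (n₀ : G ⧸ S.U) ≠ 0 := by
  obtain ⟨m, hm, ham, hmax⟩ := exists_top S ha h0
  have hnm : m⁻¹ * n₀ ∈ P.N := P.N.mul_mem (P.N.inv_mem hm) hn₀
  refine ⟨T S k (m⁻¹ * n₀), T_mem_Fix S _, ?_⟩
  have hexp : phi S.U (pm S.U k) (T S k (m⁻¹ * n₀)) a (n₀ : G ⧸ S.U) =
      ∑ x : ↥P.N, a ((x : G) : G ⧸ S.U) *
        phi S.U (pm S.U k) (T S k (m⁻¹ * n₀)) (T S k (x : G)) (n₀ : G ⧸ S.U) := by
    conv_lhs => rw [eq_sum_T S ha]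
    rw [map_sum, Finset.sum_apply]
    apply Finset.sum_congr rfl
    intro x _
    rw [map_smul, Pi.smul_apply, smul_eq_mul]
  rw [hexp, Finset.sum_eq_single (⟨m, hm⟩ : ↥P.N)]
  · have h1 := (tri (k := k) S hq _ m hm rfl (m⁻¹ * n₀) hnm n₀ hn₀).2 (by have := (hlong m hm).1; omega)
    have e : n₀ = m * (m⁻¹ * n₀) := by group
    rw [if_pos e] at h1
    show a ((m : G) : G ⧸ S.U) * phi S.U (pm S.U k) (T S k (m⁻¹ * n₀)) (T S k m) (n₀ : G ⧸ S.U) ≠ 0
    rw [h1, mul_one]
    exact ham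
  · intro x _ hx
    by_cases hx0 : a ((x : G) : G ⧸ S.U) = 0
    · rw [hx0, zero_mul]
    · have h2 := hmax x x.2 hx0
      have h3 := (hlong m hm).1
      have h4 := tri (k := k) S hq _ (x : G) x.2 rfl (m⁻¹ * n₀) hnm n₀ hn₀
      rcases Nat.lt_or_ge (len P (x : G) + len P (m⁻¹ * n₀)) (len P n₀) with h5 | h5
      · rw [h4.1 h5, mul_zero]
      · rw [h4.2 (by omega), if_neg, mul_zero]
        intro h6
        apply hx
        apply Subtype.ext
        show (x : G) = m
        have h7 : (x : G) * (m⁻¹ * n₀) * n₀⁻¹ = m * (m⁻¹ * n₀) * n₀⁻¹ := by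
          rw [← h6]
          group
        have e3 : (x : G) * (m⁻¹ * n₀) * n₀⁻¹ = x * m⁻¹ := by group
        have e4 : m * (m⁻¹ * n₀) * n₀⁻¹ = 1 := by group
        rw [e3, e4] at h7
        exact mul_inv_eq_one.1 h7
  · simp

end Nondeg

/-! ### Characters of the Hecke algebra -/

variable (k) in
/-- The Hecke algebra, as a subspace. -/
abbrev HH : Submodule k (G ⧸ S.U → k) := Fix S.U (pm S.U k)

/-- The product of the Hecke algebra. -/
noncomputable def stH (a b : ↥(HH (k := k) S)) : ↥(HH (k := k) S) :=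
  ⟨phi S.U (pm S.U k) (b : G ⧸ S.U → k) a, phi_mem_Fix b.2 a.2⟩

/-- The unit of the Hecke algebra. -/
noncomputable def oneH : ↥(HH (k := k) S) := ⟨one S.U k, one_mem_Fix⟩

/-- Characters of the Hecke algebra. -/
structure IsChi (χ : ↥(HH (k := k) S) →ₗ[k] k) : Prop where
  map_one : χ (oneH S) = 1
  map_mul : ∀ a b, χ (stH S a b) = χ a * χ b

section Rep

variable {V : Type*} [AddCommGroup V] [Module k V] (ρ : Representation k G V)

/-- The representation contains a common eigenvector with eigenvalues given by `χ`. -/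
def HasChi (χ : ↥(HH (k := k) S) →ₗ[k] k) : Prop :=
  ∃ y ∈ Fix S.U ρ, y ≠ 0 ∧ ∀ a : ↥(HH (k := k) S), phi S.U ρ y (a : G ⧸ S.U → k) = χ a • y

/-- A common eigenvector defines a character. -/
theorem exists_chi_of_eigen {y : V} (hy : y ∈ Fix S.U ρ) (h0 : y ≠ 0)
    (h : ∀ n ∈ P.N, ∃ c : k, phi S.U ρ y (T S k n) = c • y) :
    ∃ χ, IsChi S χ ∧ ∀ a : ↥(HH (k := k) S), phi S.U ρ y (a : G ⧸ S.U → k) = χ a • y := by
  choose! c hc using h
  let χ : ↥(HH (k := k) S) →ₗ[k] k :=
    { toFun := fun a => ∑ n : ↥P.N, (a : G ⧸ S.U → k) ((n : G) : G ⧸ S.U) * c (n : G)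
      map_add' := by
        intro a b
        simp only [Submodule.coe_add, Pi.add_apply, add_mul, Finset.sum_add_distrib]
      map_smul' := by
        intro r a
        simp only [Submodule.coe_smul, Pi.smul_apply, smul_eq_mul, mul_assoc, RingHom.id_apply,
          Finset.mul_sum] }
  have hχ : ∀ a : ↥(HH (k := k) S), phi S.U ρ y (a : G ⧸ S.U → k) = χ a • y := by
    intro a
    conv_lhs => rw [eq_sum_T S a.2]
    rw [map_sum]
    show _ = (∑ n : ↥P.N, (a : G ⧸ S.U → k) ((n : G) : G ⧸ S.U) * c (n : G)) • y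
    rw [Finset.sum_smul]
    apply Finset.sum_congr rfl
    intro n _
    rw [map_smul, hc _ n.2, smul_smul]
  refine ⟨χ, ⟨?_, ?_⟩, hχ⟩
  · have h1 := hχ (oneH S)
    have h2 : phi S.U ρ y (one S.U k) = y := phi_one hy
    have h3 : χ (oneH S) • y = (1 : k) • y := by
      rw [one_smul, ← h1]
      exact h2
    exact smul_left_injective k h0 h3
  · intro a b
    have h1 := hχ (stH S a b)
    have h2 : phi S.U ρ y ((stH S a b : ↥(HH (k := k) S)) : G ⧸ S.U → k) = χ b • χ a • y := by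
      show phi S.U ρ y (phi S.U (pm S.U k) (b : G ⧸ S.U → k) a) = _
      rw [phi_phi hy b.2, hχ b, phi_smul_left, hχ a]
    rw [h2] at h1
    have h3 : (χ a * χ b) • y = χ (stH S a b) • y := by
      rw [← h1, smul_smul, mul_comm]
    exact (smul_left_injective k h0 h3).symm

variable [IsAlgClosed k] [FiniteDimensional k V] [CharP k p]

omit [IsAlgClosed k] [FiniteDimensional k V] in
/-- Nonzero representations have nonzero fixed vectors. -/
theorem Fix_ne_bot [Nontrivial V] : Fix S.U ρ ≠ ⊥ := by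
  have : Fact p.Prime := ⟨S.hp⟩
  obtain ⟨v, hv⟩ := exists_ne (0 : V)
  let ρ' : Representation k ↥S.U V := ρ.comp S.U.subtype
  obtain ⟨w, hw, hw'⟩ := Cfsg.Agent.Lib.Blocks.PFixed.exists_fixed_ne_zero S.hU ρ' v hv
  intro h
  have : w ∈ Fix S.U ρ := fun u hu => hw' ⟨u, hu⟩
  rw [h, Submodule.mem_bot] at this
  exact hw this

end Rep

end Cfsg.Agent.Lib.ModHecke.Frob
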