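import Cfsg.Agent.Lib.ModHecke.Frob

/-!
Characters of the Hecke algebra of a split `(B,N)`-pair in characteristic `p` and simple modules.
-/

set_option autoImplicit false
set_option linter.unusedSectionVars false

namespace Cfsg.Agent.Lib.ModHecke.Simple

open Cfsg Cfsg.Agent.Lib.BNPair.Basic Cfsg.Agent.Lib.BNPair.Parabolic
open Cfsg.Agent.Lib.BNPair.CoxeterExchange
open Cfsg.Agent.Lib.ChevOrder.BNCount Cfsg.Agent.Lib.ChevOrder.Cox
open Cfsg.Agent.Lib.ModHecke.Core Cfsg.Agent.Lib.ModHecke.Core.Spl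
open Cfsg.Agent.Lib.ModHecke.Frob
open scoped Classical

variable {G : Type*} [Group G] [Fintype G] {P : Cfsg.BNPair G} {p : ℕ} {F : Type*} [Field F]
  [Fintype F] {ι : Type*} (S : Spl P p F ι) {k : Type*} [Field k]

section Y

/-- The pairing on the Hecke algebra attached to an element. -/
noncomputable def form (n₀ : G) : ↥(HH (k := k) S) →ₗ[k] Module.Dual k ↥(HH (k := k) S) where
  toFun y :=
    { toFun := fun a => phi S.U (pm S.U k) (y : G ⧸ S.U → k) (a : G ⧸ S.U → k) (n₀ : G ⧸ S.U)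
      map_add' := fun a b => by
        simp only [Submodule.coe_add, map_add, Pi.add_apply]
      map_smul' := fun r a => by
        simp only [Submodule.coe_smul, map_smul, Pi.smul_apply, RingHom.id_apply] }
  map_add' y z := by
    ext a
    simp only [Submodule.coe_add, phi_add_left, LinearMap.add_apply, LinearMap.coe_mk, AddHom.coe_mk,
      Pi.add_apply]
  map_smul' r y := by
    ext a
    simp only [Submodule.coe_smul, phi_smul_left, LinearMap.smul_apply, LinearMap.coe_mk, AddHom.coe_mk,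
      Pi.smul_apply, RingHom.id_apply]

@[simp] theorem form_apply (n₀ : G) (y a : ↥(HH (k := k) S)) :
    form S n₀ y a = phi S.U (pm S.U k) (y : G ⧸ S.U → k) (a : G ⧸ S.U → k) (n₀ : G ⧸ S.U) := rfl

variable {n₀ : G} (hn₀ : n₀ ∈ P.N)
  (hlong : ∀ x ∈ P.N, len P (x⁻¹ * n₀) + len P x = len P n₀ ∧ len P (n₀ * x⁻¹) + len P x = len P n₀)
  (hq : (Fintype.card F : k) = 0)
include hn₀ hlong hq

theorem eq_zero_left {a : G ⧸ S.U → k} (ha : a ∈ Fix S.U (pm S.U k))
    (h : ∀ b ∈ Fix S.U (pm S.U k), phi S.U (pm S.U k) a b (n₀ : G ⧸ S.U) = 0) : a = 0 := by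
  by_contra h0
  obtain ⟨b, hb, hne⟩ := nondeg_left S hn₀ hlong hq ha h0
  exact hne (h b hb)

theorem eq_zero_right {a : G ⧸ S.U → k} (ha : a ∈ Fix S.U (pm S.U k))
    (h : ∀ z ∈ Fix S.U (pm S.U k), phi S.U (pm S.U k) z a (n₀ : G ⧸ S.U) = 0) : a = 0 := by
  by_contra h0
  obtain ⟨b, hb, hne⟩ := nondeg_right S hn₀ hlong hq ha h0
  exact hne (h b hb)

theorem form_bijective : Function.Bijective (form (k := k) S n₀) := by
  have hinj : Function.Injective (form (k := k) S n₀) := by
    refine (injective_iff_map_eq_zero _).2 fun y hy => ?_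
    apply Subtype.ext
    refine eq_zero_left S hn₀ hlong hq y.2 fun b hb => ?_
    exact congrArg (fun l : Module.Dual k ↥(HH (k := k) S) => l ⟨b, hb⟩) hy
  exact ⟨hinj, (LinearMap.injective_iff_surjective_of_finrank_eq_finrank
    (Subspace.dual_finrank_eq).symm).1 hinj⟩

/-- The eigenvector attached to a character. -/
theorem exists_y {χ : ↥(HH (k := k) S) →ₗ[k] k} (hχ : IsChi S χ) :
    ∃ Y ∈ Fix S.U (pm S.U k), Y ≠ 0 ∧
      (∀ a : ↥(HH (k := k) S), phi S.U (pm S.U k) Y (a : G ⧸ S.U → k) = χ a • Y) ∧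
      ∀ a : ↥(HH (k := k) S), phi S.U (pm S.U k) Y (a : G ⧸ S.U → k) (n₀ : G ⧸ S.U) = χ a := by
  obtain ⟨⟨Y, hY⟩, hYχ⟩ := (form_bijective S hn₀ hlong hq).2 χ
  have hval : ∀ a : ↥(HH (k := k) S),
      phi S.U (pm S.U k) Y (a : G ⧸ S.U → k) (n₀ : G ⧸ S.U) = χ a := fun a => by
    rw [← hYχ]
    rfl
  have hY0 : Y ≠ 0 := by
    rintro rfl
    have h1 := hval (oneH S)
    rw [phi_zero_left, hχ.map_one] at h1
    exact zero_ne_one h1
  refine ⟨Y, hY, hY0, fun a => ?_, hval⟩
  have h0 : phi S.U (pm S.U k) Y (a : G ⧸ S.U → k) - χ a • Y = 0 := by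
    refine eq_zero_left S hn₀ hlong hq
      (Submodule.sub_mem _ (phi_mem_Fix hY a.2) (Submodule.smul_mem _ _ hY)) fun b hb => ?_
    have e1 : phi S.U (pm S.U k) (phi S.U (pm S.U k) Y (a : G ⧸ S.U → k) - χ a • Y) b =
        phi S.U (pm S.U k) (phi S.U (pm S.U k) Y (a : G ⧸ S.U → k)) b -
          χ a • phi S.U (pm S.U k) Y b := by
      rw [sub_eq_add_neg, phi_add_left, ← neg_one_smul k (χ a • Y), phi_smul_left, phi_smul_left,
        neg_one_smul, sub_eq_add_neg]
    rw [e1, ← phi_phi hY a.2 b]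
    have e2 : phi S.U (pm S.U k) (a : G ⧸ S.U → k) b =
        ((stH S ⟨b, hb⟩ a : ↥(HH (k := k) S)) : G ⧸ S.U → k) := rfl
    rw [Pi.sub_apply, e2, hval, hχ.map_mul, Pi.smul_apply, smul_eq_mul]
    have e3 : phi S.U (pm S.U k) Y b (n₀ : G ⧸ S.U) = χ ⟨b, hb⟩ := hval ⟨b, hb⟩
    rw [e3, mul_comm, sub_self]
  exact sub_eq_zero.1 h0

/-- Uniqueness of the eigenvector. -/
theorem eigen_unique {χ : ↥(HH (k := k) S) →ₗ[k] k} {Y u : G ⧸ S.U → k} (hY : Y ∈ Fix S.U (pm S.U k))
    (hu : u ∈ Fix S.U (pm S.U k))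
    (hYe : ∀ a : ↥(HH (k := k) S), phi S.U (pm S.U k) Y (a : G ⧸ S.U → k) (n₀ : G ⧸ S.U) = χ a)
    (hue : ∀ a : ↥(HH (k := k) S), phi S.U (pm S.U k) u (a : G ⧸ S.U → k) = χ a • u) :
    u = u (n₀ : G ⧸ S.U) • Y := by
  have h0 : u - u (n₀ : G ⧸ S.U) • Y = 0 := by
    refine eq_zero_left S hn₀ hlong hq (Submodule.sub_mem _ hu (Submodule.smul_mem _ _ hY)) fun b hb => ?_
    have e1 : phi S.U (pm S.U k) (u - u (n₀ : G ⧸ S.U) • Y) b =
        phi S.U (pm S.U k) u b - u (n₀ : G ⧸ S.U) • phi S.U (pm S.U k) Y b := by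
      rw [sub_eq_add_neg, phi_add_left, ← neg_one_smul k (u (n₀ : G ⧸ S.U) • Y), phi_smul_left,
        phi_smul_left, neg_one_smul, sub_eq_add_neg]
    rw [e1, hue ⟨b, hb⟩]
    have e3 : phi S.U (pm S.U k) Y b (n₀ : G ⧸ S.U) = χ ⟨b, hb⟩ := hYe ⟨b, hb⟩
    simp only [Pi.sub_apply, Pi.smul_apply, smul_eq_mul, e3]
    ring
  exact sub_eq_zero.1 h0

/-- A fixed vector in the submodule generated by an eigenvector is a multiple of it. -/
theorem eq_smul_of_mem_span {χ : ↥(HH (k := k) S) →ₗ[k] k} {Y u : G ⧸ S.U → k}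
    (hY : Y ∈ Fix S.U (pm S.U k)) (hY0 : Y ≠ 0)
    (hYe : ∀ a : ↥(HH (k := k) S), phi S.U (pm S.U k) Y (a : G ⧸ S.U → k) = χ a • Y)
    (hu : u ∈ Fix S.U (pm S.U k))
    (hspan : u ∈ Submodule.span k (Set.range fun g : G => pm S.U k g Y)) :
    ∃ c : k, u = c • Y := by
  -- functionals on the Hecke algebra
  have hker : ∀ z ∈ Fix S.U (pm S.U k), phi S.U (pm S.U k) z Y (n₀ : G ⧸ S.U) = 0 →
      phi S.U (pm S.U k) z u (n₀ : G ⧸ S.U) = 0 := by
    intro z hz h
    have h1 : phi S.U (pm S.U k) z Y = 0 := by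
      refine eq_zero_left S hn₀ hlong hq (phi_mem_Fix hz hY) fun b hb => ?_
      rw [← phi_phi hz hY b]
      have e : phi S.U (pm S.U k) Y b = χ ⟨b, hb⟩ • Y := hYe ⟨b, hb⟩
      rw [e, map_smul, Pi.smul_apply, h, smul_zero]
    have h2 : ∀ x ∈ Submodule.span k (Set.range fun g : G => pm S.U k g Y),
        phi S.U (pm S.U k) z x = 0 := by
      intro x hx
      induction hx using Submodule.span_induction with
      | mem x hx =>
        obtain ⟨g, rfl⟩ := hx
        rw [phi_pm hz, h1, map_zero]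
      | zero => exact map_zero _
      | add a b _ _ ha hb => rw [map_add, ha, hb, add_zero]
      | smul c a _ ha => rw [map_smul, ha, smul_zero]
    rw [h2 u hspan]
    rfl
  obtain ⟨z₀, hz₀, hne⟩ := nondeg_right S hn₀ hlong hq hY hY0
  set d := phi S.U (pm S.U k) z₀ Y (n₀ : G ⧸ S.U) with hd
  set c := phi S.U (pm S.U k) z₀ u (n₀ : G ⧸ S.U) * d⁻¹ with hc
  refine ⟨c, ?_⟩
  have h0 : u - c • Y = 0 := by
    refine eq_zero_right S hn₀ hlong hq (Submodule.sub_mem _ hu (Submodule.smul_mem _ _ hY)) fun z hz => ?_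
    set e := phi S.U (pm S.U k) z Y (n₀ : G ⧸ S.U) with he
    have h3 := hker (z - (e * d⁻¹) • z₀) (Submodule.sub_mem _ hz (Submodule.smul_mem _ _ hz₀)) (by
      have e1 : phi S.U (pm S.U k) (z - (e * d⁻¹) • z₀) Y =
          phi S.U (pm S.U k) z Y - (e * d⁻¹) • phi S.U (pm S.U k) z₀ Y := by
        rw [sub_eq_add_neg, phi_add_left, ← neg_one_smul k ((e * d⁻¹) • z₀), phi_smul_left,
          phi_smul_left, neg_one_smul, sub_eq_add_neg]
      rw [e1, Pi.sub_apply, Pi.smul_apply, smul_eq_mul, ← hd, ← he]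
      field_simp
      ring)
    have e1 : phi S.U (pm S.U k) (z - (e * d⁻¹) • z₀) u =
        phi S.U (pm S.U k) z u - (e * d⁻¹) • phi S.U (pm S.U k) z₀ u := by
      rw [sub_eq_add_neg, phi_add_left, ← neg_one_smul k ((e * d⁻¹) • z₀), phi_smul_left,
        phi_smul_left, neg_one_smul, sub_eq_add_neg]
    rw [e1, Pi.sub_apply, Pi.smul_apply, smul_eq_mul] at h3
    rw [map_sub, map_smul, Pi.sub_apply, Pi.smul_apply, smul_eq_mul, ← he, hc]
    have h4 := sub_eq_zero.1 h3
    rw [h4]
    ring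
  exact sub_eq_zero.1 h0

end Y

/-! ### Simple modules -/

section Rep

variable {V : Type*} [AddCommGroup V] [Module k V] (ρ : Representation k G V)

/-- Simple representations. -/
def IsSimpleRep : Prop :=
  Nontrivial V ∧ ∀ W : Submodule k V, (∀ g, ∀ v ∈ W, ρ g v ∈ W) → W = ⊥ ∨ W = ⊤

variable {V' : Type*} [AddCommGroup V'] [Module k V'] {ρ' : Representation k G V'}

/-- Equivariant maps preserve fixed vectors. -/
theorem map_mem_Fix {ψ : V →ₗ[k] V'} (hψ : ∀ g v, ψ (ρ g v) = ρ' g (ψ v)) {y : V}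
    (hy : y ∈ Fix S.U ρ) : ψ y ∈ Fix S.U ρ' := fun u hu => by
  rw [← hψ, hy u hu]

/-- Equivariant maps commute with the Hecke action. -/
theorem map_phi {ψ : V →ₗ[k] V'} (hψ : ∀ g v, ψ (ρ g v) = ρ' g (ψ v)) (y : V) (a : G ⧸ S.U → k) :
    ψ (phi S.U ρ y a) = phi S.U ρ' (ψ y) a := by
  simp only [phi_apply, map_sum, map_smul, hψ]

/-- Nonzero equivariant maps from a simple representation are injective. -/
theorem injective_of_simple {ρ : Representation k G V} (hρ : IsSimpleRep ρ) {ψ : V →ₗ[k] V'}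
    (hψ : ∀ g v, ψ (ρ g v) = ρ' g (ψ v)) (h0 : ψ ≠ 0) : Function.Injective ψ := by
  rcases hρ.2 (LinearMap.ker ψ) (fun g v hv => by
    rw [LinearMap.mem_ker, hψ, LinearMap.mem_ker.1 hv, map_zero]) with h | h
  · exact LinearMap.ker_eq_bot.1 h
  · exact absurd (LinearMap.ker_eq_top.1 h) h0

variable [CharP k p] [FiniteDimensional k V]

/-- Simple representations embed in the permutation module. -/
theorem exists_embed {ρ : Representation k G V} (hρ : IsSimpleRep ρ) :
    ∃ ψ : V →ₗ[k] (G ⧸ S.U → k), Function.Injective ψ ∧ ∀ g v, ψ (ρ g v) = pm S.U k g (ψ v) := by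
  have : Fact p.Prime := ⟨S.hp⟩
  have := hρ.1
  -- a fixed nonzero functional
  obtain ⟨v₀, hv₀⟩ := exists_ne (0 : V)
  obtain ⟨φ₀, hφ₀⟩ : ∃ φ : Module.Dual k V, φ v₀ ≠ 0 := by
    by_contra h
    push Not at h
    exact hv₀ ((Module.forall_dual_apply_eq_zero_iff k v₀).1 h)
  let ρd : Representation k ↥S.U (Module.Dual k V) :=
    { toFun := fun u => Module.Dual.transpose (R := k) (ρ ((u : G)⁻¹))
      map_one' := by
        ext f v
        simp [Module.Dual.transpose_apply]
      map_mul' := by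
        intro a b
        ext f v
        simp [Module.Dual.transpose_apply, mul_inv_rev] }
  have hne : φ₀ ≠ 0 := by
    rintro rfl
    exact hφ₀ rfl
  obtain ⟨φ, hφ0, hφ⟩ := Cfsg.Agent.Lib.Blocks.PFixed.exists_fixed_ne_zero S.hU ρd φ₀ hne
  have hφ' : ∀ u ∈ S.U, ∀ v, φ (ρ u v) = φ v := by
    intro u hu v
    have h1 := hφ ⟨u⁻¹, S.U.inv_mem hu⟩
    have h2 := congrArg (fun f : Module.Dual k V => f v) h1
    simpa [ρd, Module.Dual.transpose_apply] using h2
  let ψ : V →ₗ[k] (G ⧸ S.U → k) :=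
    { toFun := fun v c => φ (ρ (Quotient.out c)⁻¹ v)
      map_add' := by
        intro a b
        funext c
        simp
      map_smul' := by
        intro r a
        funext c
        simp }
  have hψmk : ∀ (v : V) (g : G), ψ v (g : G ⧸ S.U) = φ (ρ g⁻¹ v) := by
    intro v g
    obtain ⟨u, hu⟩ := QuotientGroup.mk_out_eq_mul S.U g
    show φ (ρ (Quotient.out (g : G ⧸ S.U))⁻¹ v) = _
    rw [hu, mul_inv_rev, map_mul, Module.End.mul_apply, hφ' _ (S.U.inv_mem u.2)]
  have hψe : ∀ g v, ψ (ρ g v) = pm S.U k g (ψ v) := by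
    intro g v
    funext c
    obtain ⟨x, rfl⟩ := QuotientGroup.mk_surjective c
    rw [pm_apply, hψmk]
    have e : g⁻¹ • ((x : G) : G ⧸ S.U) = ((g⁻¹ * x : G) : G ⧸ S.U) := rfl
    rw [e, hψmk, mul_inv_rev, inv_inv, map_mul, Module.End.mul_apply]
  refine ⟨ψ, injective_of_simple hρ hψe ?_, hψe⟩
  intro h
  apply hφ0
  ext v
  have h1 := hψmk v 1
  rw [h] at h1
  simpa using h1.symm

end Rep

/-! ### Classification of simple modules by characters -/

section Main

variable {V : Type*} [AddCommGroup V] [Module k V] {ρ : Representation k G V}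
variable {V' : Type*} [AddCommGroup V'] [Module k V'] {ρ' : Representation k G V'}

/-- The subrepresentation on an invariant subspace. -/
def subRep (ρ : Representation k G V) (W : Submodule k V) (hW : ∀ g, ∀ v ∈ W, ρ g v ∈ W) :
    Representation k G ↥W where
  toFun g := (ρ g).restrict (hW g)
  map_one' := by
    ext v
    simp
  map_mul' := by
    intro a b
    ext v
    simp

@[simp] theorem subRep_coe (W : Submodule k V) (hW : ∀ g, ∀ v ∈ W, ρ g v ∈ W) (g : G) (v : ↥W) :
    ((subRep ρ W hW g v : ↥W) : V) = ρ g (v : V) := rfl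

theorem span_orbit_eq_top (hρ : IsSimpleRep ρ) {y : V} (hy0 : y ≠ 0) :
    Submodule.span k (Set.range fun g : G => ρ g y) = ⊤ := by
  rcases hρ.2 (Submodule.span k (Set.range fun g : G => ρ g y)) (fun g v hv => by
    induction hv using Submodule.span_induction with
    | mem x hx =>
      obtain ⟨h, rfl⟩ := hx
      refine Submodule.subset_span ⟨g * h, ?_⟩
      simp
    | zero => simp
    | add a b _ _ ha hb => rw [map_add]; exact Submodule.add_mem _ ha hb
    | smul c a _ ha => rw [map_smul]; exact Submodule.smul_mem _ c ha) with h | h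
  · exfalso
    have h1 : y ∈ Submodule.span k (Set.range fun g : G => ρ g y) :=
      Submodule.subset_span ⟨1, by simp⟩
    rw [h, Submodule.mem_bot] at h1
    exact hy0 h1
  · exact h

variable {n₀ : G} (hn₀ : n₀ ∈ P.N)
  (hlong : ∀ x ∈ P.N, len P (x⁻¹ * n₀) + len P x = len P n₀ ∧ len P (n₀ * x⁻¹) + len P x = len P n₀)
  (hq : (Fintype.card F : k) = 0)
include hn₀ hlong hq

variable [CharP k p]

/-- In a simple module with an eigenvector, the fixed vectors are multiples of the eigenvector. -/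
theorem simple_fixed [FiniteDimensional k V] (hρ : IsSimpleRep ρ) {χ : ↥(HH (k := k) S) →ₗ[k] k} {y u : V}
    (hy : y ∈ Fix S.U ρ) (hy0 : y ≠ 0)
    (hye : ∀ a : ↥(HH (k := k) S), phi S.U ρ y (a : G ⧸ S.U → k) = χ a • y) (hu : u ∈ Fix S.U ρ) :
    ∃ c : k, u = c • y := by
  obtain ⟨ψ, hψi, hψe⟩ := exists_embed (p := p) S hρ
  have hY : ψ y ∈ Fix S.U (pm S.U k) := map_mem_Fix S ρ hψe hy
  have hY0 : ψ y ≠ 0 := fun h => hy0 (hψi (by rw [h, map_zero]))
  have hYe : ∀ a : ↥(HH (k := k) S), phi S.U (pm S.U k) (ψ y) (a : G ⧸ S.U → k) = χ a • ψ y := by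
    intro a
    rw [← map_phi S ρ hψe, hye, map_smul]
  have hmem : ∀ x : V, ψ x ∈ Submodule.span k (Set.range fun g : G => pm S.U k g (ψ y)) := by
    intro x
    have hx : x ∈ Submodule.span k (Set.range fun g : G => ρ g y) := by
      rw [span_orbit_eq_top hρ hy0]
      trivial
    induction hx using Submodule.span_induction with
    | mem x hx =>
      obtain ⟨h, rfl⟩ := hx
      rw [hψe]
      exact Submodule.subset_span ⟨h, rfl⟩
    | zero => rw [map_zero]; exact Submodule.zero_mem _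
    | add a b _ _ ha hb => rw [map_add]; exact Submodule.add_mem _ ha hb
    | smul c a _ ha => rw [map_smul]; exact Submodule.smul_mem _ c ha
  obtain ⟨c, hc⟩ := eq_smul_of_mem_span S hn₀ hlong hq hY hY0 hYe (map_mem_Fix S ρ hψe hu) (hmem u)
  exact ⟨c, hψi (by rw [hc, map_smul])⟩

/-- A simple module determines its character. -/
theorem chi_unique [FiniteDimensional k V] (hρ : IsSimpleRep ρ) {χ χ' : ↥(HH (k := k) S) →ₗ[k] k}
    (h : HasChi S ρ χ) (h' : HasChi S ρ χ') : χ = χ' := by
  obtain ⟨y, hy, hy0, hye⟩ := h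
  obtain ⟨y', hy', hy'0, hye'⟩ := h'
  obtain ⟨c, rfl⟩ := simple_fixed S hn₀ hlong hq hρ hy hy0 hye hy'
  ext a
  have h1 := hye' a
  rw [phi_smul_left, hye, smul_smul, smul_smul] at h1
  have h2 : c ≠ 0 := by
    rintro rfl
    exact hy'0 (zero_smul _ _)
  have h3 := smul_left_injective k hy0 h1
  exact mul_left_cancel₀ h2 (by simpa [mul_comm] using h3)

/-- Every simple module has a character. -/
theorem exists_chi [IsAlgClosed k] [FiniteDimensional k V] (hρ : IsSimpleRep ρ) :
    ∃ χ, IsChi S χ ∧ HasChi S ρ χ := by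
  have := hρ.1
  have hV := Fix_ne_bot (p := p) S ρ
  obtain ⟨y, hy, hy0, he⟩ := exists_eigen S hq hV
  obtain ⟨χ, hχ, hχe⟩ := exists_chi_of_eigen S ρ hy hy0 he
  exact ⟨χ, hχ, y, hy, hy0, hχe⟩

/-- The simple module attached to a character. -/
theorem exists_simple {χ : ↥(HH (k := k) S) →ₗ[k] k} (hχ : IsChi S χ) :
    ∃ (X : Submodule k (G ⧸ S.U → k)) (hX : ∀ g, ∀ v ∈ X, pm S.U k g v ∈ X),
      IsSimpleRep (subRep (pm S.U k) X hX) ∧ HasChi S (subRep (pm S.U k) X hX) χ := by
  obtain ⟨Y, hY, hY0, hYe, -⟩ := exists_y S hn₀ hlong hq hχ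
  let X := Submodule.span k (Set.range fun g : G => pm S.U k g Y)
  have hYX : Y ∈ X := Submodule.subset_span ⟨1, by simp⟩
  have hX : ∀ g, ∀ v ∈ X, pm S.U k g v ∈ X := by
    intro g v hv
    induction hv using Submodule.span_induction with
    | mem x hx =>
      obtain ⟨h, rfl⟩ := hx
      refine Submodule.subset_span ⟨g * h, ?_⟩
      simp
    | zero => simp
    | add a b _ _ ha hb => rw [map_add]; exact Submodule.add_mem _ ha hb
    | smul c a _ ha => rw [map_smul]; exact Submodule.smul_mem _ c ha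
  refine ⟨X, hX, ⟨?_, ?_⟩, ⟨Y, hYX⟩, ?_, ?_, ?_⟩
  · exact ⟨⟨⟨Y, hYX⟩, 0, fun h => hY0 (congrArg Subtype.val h)⟩⟩
  · intro W hW
    by_cases hWb : W = ⊥
    · exact Or.inl hWb
    right
    have : Nontrivial ↥W := Submodule.nontrivial_iff_ne_bot.2 hWb
    have hF := Fix_ne_bot (p := p) (V := ↥W) S (subRep (subRep (pm S.U k) X hX) W hW)
    obtain ⟨w, hw, hw0⟩ := Submodule.exists_mem_ne_zero_of_ne_bot hF
    have huF : (((w : ↥X) : G ⧸ S.U → k)) ∈ Fix S.U (pm S.U k) := by
      intro u hu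
      have := hw u hu
      exact congrArg (fun z : ↥W => (((z : ↥X) : G ⧸ S.U → k))) this
    obtain ⟨c, hc⟩ := eq_smul_of_mem_span S hn₀ hlong hq hY hY0 hYe huF (w : ↥X).2
    have hc0 : c ≠ 0 := by
      rintro rfl
      rw [zero_smul] at hc
      exact hw0 (Subtype.ext (Subtype.ext hc))
    -- the vector `Y` lies in `W`
    have hYW : (⟨Y, hYX⟩ : ↥X) ∈ W := by
      have e : (⟨Y, hYX⟩ : ↥X) = c⁻¹ • (w : ↥X) := by
        apply Subtype.ext
        show Y = c⁻¹ • ((w : ↥X) : G ⧸ S.U → k)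
        rw [hc, smul_smul, inv_mul_cancel₀ hc0, one_smul]
      rw [e]
      exact W.smul_mem _ w.2
    rw [eq_top_iff]
    rintro ⟨x, hx⟩ -
    induction hx using Submodule.span_induction with
    | mem x hx =>
      obtain ⟨g, rfl⟩ := hx
      exact hW g _ hYW
    | zero => exact W.zero_mem
    | add a b ha hb h1 h2 => exact W.add_mem h1 h2
    | smul c a ha h1 => exact W.smul_mem c h1
  · intro u hu
    exact Subtype.ext (hY u hu)
  · intro h
    exact hY0 (congrArg Subtype.val h)
  · intro a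
    apply Subtype.ext
    have h1 := map_phi S (subRep (pm S.U k) X hX) (ρ' := pm S.U k) (ψ := X.subtype)
      (fun g v => rfl) ⟨Y, hYX⟩ (a : G ⧸ S.U → k)
    rw [Submodule.subtype_apply] at h1
    rw [h1]
    exact hYe a

end Main

/-! ### The matrix factors of the group algebra -/

section Wedderburn

open MonoidAlgebra

variable {V : Type*} [AddCommGroup V] [Module k V] {ρ : Representation k G V}
variable {V' : Type*} [AddCommGroup V'] [Module k V'] {ρ' : Representation k G V'}

/-- Equivariant maps are equivariant for the group algebra. -/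
theorem hat_equivariant {ψ : V →ₗ[k] V'} (hψ : ∀ g v, ψ (ρ g v) = ρ' g (ψ v)) (a : MonoidAlgebra k G)
    (v : V) : ψ (Representation.asAlgebraHom ρ a v) = Representation.asAlgebraHom ρ' a (ψ v) := by
  induction a using MonoidAlgebra.induction_on with
  | of g =>
    rw [Representation.asAlgebraHom_of, Representation.asAlgebraHom_of, hψ]
  | add a b ha hb =>
    simp only [map_add, LinearMap.add_apply, ha, hb]
  | smul r a ha =>
    simp only [map_smul, LinearMap.smul_apply, ha]

variable {n : ℕ} {d : Fin n → ℕ} (Θ : MonoidAlgebra k G →ₐ[k] Π i, Matrix (Fin (d i)) (Fin (d i)) k)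

/-- The representation on a matrix factor. -/
noncomputable def matRep (i : Fin n) : Representation k G (Fin (d i) → k) where
  toFun g := Matrix.toLin' (Θ (MonoidAlgebra.of k G g) i)
  map_one' := by
    rw [map_one, map_one, Pi.one_apply, Matrix.toLin'_one]
    rfl
  map_mul' := by
    intro a b
    rw [map_mul, map_mul, Pi.mul_apply, Matrix.toLin'_mul]
    rfl

theorem matRep_apply (i : Fin n) (g : G) (v : Fin (d i) → k) :
    matRep Θ i g v = Matrix.mulVec (Θ (MonoidAlgebra.of k G g) i) v := rfl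

theorem matRep_hat (i : Fin n) (a : MonoidAlgebra k G) :
    Representation.asAlgebraHom (matRep Θ i) a = Matrix.toLin' (Θ a i) := by
  induction a using MonoidAlgebra.induction_on with
  | of g =>
    rw [Representation.asAlgebraHom_of]
    rfl
  | add a b ha hb =>
    rw [map_add, ha, hb, map_add, Pi.add_apply, map_add]
  | smul r a ha =>
    rw [map_smul, ha, map_smul, Pi.smul_apply, map_smul]

variable {Θ}

/-- The representations on the factors are simple. -/
theorem matRep_simple (hΘ : Function.Surjective Θ) (i : Fin n) [NeZero (d i)] :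
    IsSimpleRep (matRep Θ i) := by
  refine ⟨inferInstance, fun W hW => ?_⟩
  by_cases hb : W = ⊥
  · exact Or.inl hb
  right
  obtain ⟨v, hv, hv0⟩ := Submodule.exists_mem_ne_zero_of_ne_bot hb
  have hhat : ∀ a : MonoidAlgebra k G, ∀ x ∈ W, Representation.asAlgebraHom (matRep Θ i) a x ∈ W := by
    intro a x hx
    induction a using MonoidAlgebra.induction_on with
    | of g =>
      rw [Representation.asAlgebraHom_of]
      exact hW g x hx
    | add a b ha hb =>
      rw [map_add, LinearMap.add_apply]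
      exact W.add_mem ha hb
    | smul r a ha =>
      rw [map_smul, LinearMap.smul_apply]
      exact W.smul_mem r ha
  obtain ⟨s, hs⟩ : ∃ s, v s ≠ 0 := by
    by_contra h
    push Not at h
    exact hv0 (funext h)
  rw [eq_top_iff]
  intro u _
  classical
  obtain ⟨a, ha⟩ := hΘ (Pi.single i (Matrix.vecMulVec u (Pi.single s (v s)⁻¹)))
  have h1 := hhat a v hv
  rw [matRep_hat, ha, Pi.single_eq_same, Matrix.toLin'_apply] at h1
  have h2 : Matrix.mulVec (Matrix.vecMulVec u (Pi.single s (v s)⁻¹)) v = u := by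
    rw [Matrix.vecMulVec_mulVec]
    funext t
    simp [Pi.single_apply, dotProduct, hs]
  rwa [h2] at h1

/-- The kernel kills simple modules. -/
theorem hat_eq_zero (hρ : IsSimpleRep ρ) {N : ℕ} (hN : ∀ x, Θ x = 0 → x ^ N = 0)
    {x : MonoidAlgebra k G} (hx : Θ x = 0) : Representation.asAlgebraHom ρ x = 0 := by
  by_contra hne
  obtain ⟨v, hv⟩ : ∃ v, Representation.asAlgebraHom ρ x v ≠ 0 := by
    by_contra h
    push Not at h
    exact hne (LinearMap.ext h)
  set w := Representation.asAlgebraHom ρ x v with hw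
  let W : Submodule k V := LinearMap.range
    ((LinearMap.applyₗ w : Module.End k V →ₗ[k] V) ∘ₗ (Representation.asAlgebraHom ρ).toLinearMap)
  have hmem : ∀ b, Representation.asAlgebraHom ρ b w ∈ W := fun b => ⟨b, rfl⟩
  have hW : W = ⊤ := by
    rcases hρ.2 W (fun g y hy => by
      obtain ⟨b, rfl⟩ := hy
      have : ρ g (Representation.asAlgebraHom ρ b w) =
          Representation.asAlgebraHom ρ (MonoidAlgebra.of k G g * b) w := by
        rw [map_mul, Representation.asAlgebraHom_of]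
        rfl
      show ρ g (Representation.asAlgebraHom ρ b w) ∈ W
      rw [this]
      exact hmem _) with h | h
    · exfalso
      have h1 := hmem 1
      rw [map_one, h, Submodule.mem_bot] at h1
      exact hv h1
    · exact h
  obtain ⟨b, hb⟩ : v ∈ W := by
    rw [hW]
    trivial
  have hb' : Representation.asAlgebraHom ρ (b * x) v = v := by
    rw [map_mul]
    exact hb
  have hz : Θ (b * x) = 0 := by
    rw [map_mul, hx, mul_zero]
  have h0 := hN _ hz
  have hpow : ∀ m : ℕ, Representation.asAlgebraHom ρ ((b * x) ^ m) v = v := by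
    intro m
    induction m with
    | zero => simp
    | succ m ih =>
      rw [pow_succ, map_mul, Module.End.mul_apply, hb', ih]
  have h1 := hpow N
  rw [h0, map_zero] at h1
  have hv0 : v = 0 := by simpa using h1.symm
  apply hv
  rw [hw, hv0, map_zero]

variable [∀ i, NeZero (d i)]

/-- Every simple module receives a nonzero map from a matrix factor. -/
theorem exists_map (hΘ : Function.Surjective Θ) {N : ℕ} (hN : ∀ x, Θ x = 0 → x ^ N = 0)
    (hρ : IsSimpleRep ρ) :
    ∃ (i : Fin n) (ψ : (Fin (d i) → k) →ₗ[k] V), ψ ≠ 0 ∧ ∀ g v, ψ (matRep Θ i g v) = ρ g (ψ v) := by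
  classical
  have hcongr : ∀ a b, Θ a = Θ b → Representation.asAlgebraHom ρ a = Representation.asAlgebraHom ρ b := by
    intro a b h
    have := hat_eq_zero hρ hN (x := a - b) (by rw [map_sub, h, sub_self])
    rw [map_sub, sub_eq_zero] at this
    exact this
  choose E hE using fun t : Σ i, Fin (d i) × Fin (d i) =>
    hΘ (Pi.single t.1 (Matrix.single t.2.1 t.2.2 (1 : k)))
  have := hρ.1
  obtain ⟨x, hx⟩ := exists_ne (0 : V)
  -- the sum of the diagonal idempotents acts as the identity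
  have hone : ∑ t : Σ i, Fin (d i), Representation.asAlgebraHom ρ (E ⟨t.1, t.2, t.2⟩) x = x := by
    have h1 : Θ (∑ t : Σ i, Fin (d i), E ⟨t.1, t.2, t.2⟩) = Θ 1 := by
      rw [map_sum, map_one]
      simp only [hE]
      funext i
      rw [Fintype.sum_sigma, Finset.sum_apply, Finset.sum_eq_single i]
      · rw [Finset.sum_apply]
        simp only [Pi.single_eq_same, Pi.one_apply]
        ext a b
        rw [Matrix.sum_apply, Matrix.one_apply]
        simp only [Matrix.single_apply]
        by_cases hab : a = b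
        · subst hab
          simp
        · rw [if_neg hab]
          apply Finset.sum_eq_zero
          intro c _
          rw [if_neg]
          rintro ⟨rfl, rfl⟩
          exact hab rfl
      · intro j _ hj
        rw [Finset.sum_apply]
        simp [Pi.single_eq_of_ne hj.symm]
      · simp
    have h2 := congrArg (fun f : Module.End k V => f x) (hcongr _ _ h1)
    simp only [map_sum, map_one, LinearMap.sum_apply, Module.End.one_apply] at h2
    exact h2
  obtain ⟨⟨i, r⟩, hir⟩ : ∃ t : Σ i, Fin (d i), Representation.asAlgebraHom ρ (E ⟨t.1, t.2, t.2⟩) x ≠ 0 := by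
    by_contra h
    push Not at h
    rw [Finset.sum_eq_zero (fun t _ => h t)] at hone
    exact hx hone.symm
  let ψ : (Fin (d i) → k) →ₗ[k] V :=
    { toFun := fun v => ∑ t, v t • Representation.asAlgebraHom ρ (E ⟨i, t, r⟩) x
      map_add' := by
        intro a b
        simp only [Pi.add_apply, add_smul, Finset.sum_add_distrib]
      map_smul' := by
        intro c a
        simp only [Pi.smul_apply, smul_eq_mul, mul_smul, RingHom.id_apply, Finset.smul_sum] }
  have hψ : ∀ v, ψ v = Representation.asAlgebraHom ρ (∑ t, v t • E ⟨i, t, r⟩) x := by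
    intro v
    simp only [map_sum, map_smul, LinearMap.sum_apply, LinearMap.smul_apply]
    rfl
  have hΘv : ∀ v : Fin (d i) → k, Θ (∑ t, v t • E ⟨i, t, r⟩) =
      Pi.single i (Matrix.of fun a b => if b = r then v a else 0) := by
    intro v
    rw [map_sum]
    simp only [map_smul, hE]
    funext j
    rw [Finset.sum_apply]
    by_cases hj : j = i
    · subst hj
      simp only [Pi.smul_apply, Pi.single_eq_same]
      ext a b
      rw [Matrix.sum_apply]
      simp only [Matrix.smul_apply, Matrix.single_apply, Matrix.of_apply, smul_eq_mul]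
      by_cases hb : b = r
      · subst hb
        simp
      · have hb' : ¬ r = b := fun h => hb h.symm
        simp [hb, hb']
    · simp [Pi.single_eq_of_ne hj]
  refine ⟨i, ψ, ?_, ?_⟩
  · intro h
    apply hir
    have h1 := congrArg (fun f : (Fin (d i) → k) →ₗ[k] V => f (Pi.single r 1)) h
    simp only [LinearMap.zero_apply] at h1
    rw [← h1]
    show _ = ∑ t, (Pi.single r (1 : k) : Fin (d i) → k) t • Representation.asAlgebraHom ρ (E ⟨i, t, r⟩) x
    rw [Finset.sum_eq_single r]
    · simp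
    · intro b _ hb
      simp [Pi.single_eq_of_ne hb]
    · simp
  · intro g v
    rw [hψ, hψ]
    have h2 : ρ g (Representation.asAlgebraHom ρ (∑ t, v t • E ⟨i, t, r⟩) x) =
        Representation.asAlgebraHom ρ (MonoidAlgebra.of k G g * ∑ t, v t • E ⟨i, t, r⟩) x := by
      rw [map_mul, Representation.asAlgebraHom_of]
      rfl
    rw [h2]
    congr 1
    apply hcongr
    rw [map_mul, hΘv, hΘv]
    funext j
    by_cases hj : j = i
    · subst hj
      simp only [Pi.mul_apply, Pi.single_eq_same]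
      ext a b
      simp only [Matrix.of_apply, Matrix.mul_apply, matRep_apply, Matrix.mulVec, dotProduct]
      split_ifs <;> simp
    · simp [Pi.single_eq_of_ne hj]

section Count

variable {n₀ : G} (hn₀ : n₀ ∈ P.N)
  (hlong : ∀ x ∈ P.N, len P (x⁻¹ * n₀) + len P x = len P n₀ ∧ len P (n₀ * x⁻¹) + len P x = len P n₀)
  (hq : (Fintype.card F : k) = 0)
include hn₀ hlong hq

variable [CharP k p] [IsAlgClosed k]
variable {n : ℕ} {d : Fin n → ℕ} [∀ i, NeZero (d i)]
  {Θ : MonoidAlgebra k G →ₐ[k] Π i, Matrix (Fin (d i)) (Fin (d i)) k}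

/-- The characters of the Hecke algebra are in bijection with the matrix factors. -/
theorem card_chi (hΘ : Function.Surjective Θ) {N : ℕ} (hN : ∀ x, Θ x = 0 → x ^ N = 0) :
    Nat.card {χ : ↥(HH (k := k) S) →ₗ[k] k // IsChi S χ} = n := by
  classical
  have hs : ∀ i, ∃ χ, IsChi S χ ∧ HasChi S (matRep Θ i) χ := fun i =>
    exists_chi (p := p) S hn₀ hlong hq (matRep_simple hΘ i)
  choose c hc hcV using hs
  let f : Fin n → {χ : ↥(HH (k := k) S) →ₗ[k] k // IsChi S χ} := fun i => ⟨c i, hc i⟩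
  have hinj : Function.Injective f := by
    intro i j hij
    by_contra hne
    have hcc : c i = c j := congrArg Subtype.val hij
    obtain ⟨yi, hyi, hyi0, hyie⟩ := hcV i
    obtain ⟨yj, hyj, hyj0, hyje⟩ := hcV j
    rw [hcc] at hyie
    obtain ⟨ψi, hψii, hψie⟩ := exists_embed (p := p) S (matRep_simple hΘ i)
    obtain ⟨ψj, hψji, hψje⟩ := exists_embed (p := p) S (matRep_simple hΘ j)
    -- an element of the algebra separating the factors
    obtain ⟨a, ha⟩ := hΘ (Pi.single i 1)
    have h1 : Representation.asAlgebraHom (pm S.U k) a (ψi yi) = ψi yi := by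
      rw [← hat_equivariant hψie, matRep_hat, ha, Pi.single_eq_same, Matrix.toLin'_one]
      rfl
    have h2 : Representation.asAlgebraHom (pm S.U k) a (ψj yj) = 0 := by
      rw [← hat_equivariant hψje, matRep_hat, ha, Pi.single_eq_of_ne (Ne.symm hne), map_zero]
      simp
    -- both are eigenvectors with the same character
    have hYj : ψj yj ∈ Fix S.U (pm S.U k) := map_mem_Fix S _ hψje hyj
    have hYi : ψi yi ∈ Fix S.U (pm S.U k) := map_mem_Fix S _ hψie hyi
    have hej : ∀ a : ↥(HH (k := k) S), phi S.U (pm S.U k) (ψj yj) (a : G ⧸ S.U → k) = c j a • ψj yj := by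
      intro a
      rw [← map_phi S _ hψje, hyje, map_smul]
    have hei : ∀ a : ↥(HH (k := k) S), phi S.U (pm S.U k) (ψi yi) (a : G ⧸ S.U → k) = c j a • ψi yi := by
      intro a
      rw [← map_phi S _ hψie, hyie, map_smul]
    obtain ⟨Y, hY, hY0, hYe, hYv⟩ := exists_y S hn₀ hlong hq (hc j)
    have e1 := eigen_unique S hn₀ hlong hq hY hYi hYv hei
    have e2 := eigen_unique S hn₀ hlong hq hY hYj hYv hej
    have hi0 : ψi yi ≠ 0 := fun h => hyi0 (hψii (by rw [h, map_zero]))
    have hj0 : ψj yj ≠ 0 := fun h => hyj0 (hψji (by rw [h, map_zero]))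
    set u₁ := ψi yi (n₀ : G ⧸ S.U) with hu₁
    set u₂ := ψj yj (n₀ : G ⧸ S.U) with hu₂
    have hu₂0 : u₂ ≠ 0 := by
      intro h
      rw [h, zero_smul] at e2
      exact hj0 e2
    rw [e2, map_smul] at h2
    have h3 : Representation.asAlgebraHom (pm S.U k) a Y = 0 :=
      (smul_eq_zero.1 h2).resolve_left hu₂0
    rw [e1, map_smul, h3, smul_zero] at h1
    exact hi0 (by rw [e1]; exact h1.symm)
  have hsurj : Function.Surjective f := by
    rintro ⟨χ, hχ⟩
    obtain ⟨X, hX, hXs, hXc⟩ := exists_simple (p := p) S hn₀ hlong hq hχ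
    obtain ⟨i, ψ, hψ0, hψe⟩ := exists_map hΘ hN hXs
    refine ⟨i, Subtype.ext ?_⟩
    show c i = χ
    apply chi_unique (p := p) S hn₀ hlong hq hXs ?_ hXc
    obtain ⟨y, hy, hy0, hye⟩ := hcV i
    have hψi := injective_of_simple (matRep_simple hΘ i) hψe hψ0
    refine ⟨ψ y, map_mem_Fix S _ hψe hy, fun h => hy0 (hψi (by rw [h, map_zero])), fun a => ?_⟩
    rw [← map_phi S _ hψe, hye, map_smul]
  rw [Nat.card_congr (Equiv.ofBijective f ⟨hinj, hsurj⟩).symm, Nat.card_eq_fintype_card, Fintype.card_fin]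

end Count

end Wedderburn

end Cfsg.Agent.Lib.ModHecke.Simple
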